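import Groth.Agent.Lib.GeomReg.FiniteGRing
import Groth.Agent.Lib.AdicExtra.Completion
import Groth.Agent.Lib.Smoothing.Popescu.Base

/-!
# Completion maps of G-rings are regular
-/

set_option autoImplicit false

universe u

open IsLocalRing

namespace Smoothing.Approx

/-- A Noetherian local ring flat and unramified with trivial residue extension over a local ring
with regular completion map is regular over it. -/
theorem isRegularHom_of_completion {R T : Type u} [CommRing R] [CommRing T] [IsLocalRing R] [IsLocalRing T]
    [IsNoetherianRing R] [IsNoetherianRing T] [Algebra R T] [IsLocalHom (algebraMap R T)] [Module.Flat R T]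
    (hm : (maximalIdeal R).map (algebraMap R T) = maximalIdeal T)
    (hk : Function.Bijective (ResidueField.map (algebraMap R T)))
    (h : CAlg.IsRegularHom R (AdicCompletion (maximalIdeal R) R)) : CAlg.IsRegularHom R T := by
  obtain ⟨ψ, hψ⟩ := GrothLib.GeomReg.exists_completion_map R T
  have hbij := GrothLib.AdicExtra.bijective_completion ψ hψ hm hk
  let e : AdicCompletion (maximalIdeal R) R ≃ₐ[R] AdicCompletion (maximalIdeal T) T :=
    AlgEquiv.ofBijective { ψ with commutes' := fun r => RingHom.congr_fun hψ r } hbij
  haveI : Module.FaithfullyFlat T (AdicCompletion (maximalIdeal T) T) :=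
    Module.FaithfullyFlat.of_flat_of_isLocalHom
  exact GrothLib.GeomReg.isRegularHom_of_faithfullyFlat (Popescu.isRegularHom_of_algEquiv e h)

/-- The completion map of a G-ring along any ideal is regular. -/
theorem isRegularHom_adicCompletion {A : Type u} [CommRing A] (hA : CAlg.IsGRing A) (I : Ideal A) :
    CAlg.IsRegularHom A (AdicCompletion I A) := by
  haveI := hA.1
  refine GrothLib.GeomReg.isRegularHom_of_forall_isMaximal fun M hM => ?_
  set C := AdicCompletion I A
  haveI : IsAdicComplete (I.map (algebraMap A C)) C := AdicCompletion.isAdicComplete_self I I.fg_of_isNoetherianRing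
  have hIM : I.map (algebraMap A C) ≤ M :=
    le_trans (IsAdicComplete.le_jacobson_bot _) (sInf_le ⟨bot_le, hM⟩)
  have hdec : ∀ x : C, ∃ a : A, x - algebraMap A C a ∈ I.map (algebraMap A C) := fun x => by
    obtain ⟨a, ha⟩ := Ideal.Quotient.mk_surjective (AdicCompletion.evalOneₐ I x)
    refine ⟨a, ?_⟩
    rw [← AdicCompletion.ker_evalOneₐ_eq_map I I.fg_of_isNoetherianRing, RingHom.mem_ker, map_sub,
      ← RingHom.congr_fun (AdicCompletion.evalOneₐ_comp_algebraMap_eq_mk I) a] at *
    exact sub_eq_zero.2 ha.symm
  set m := M.comap (algebraMap A C)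
  have hmM : m.map (algebraMap A C) = M := le_antisymm Ideal.map_comap_le fun x hx => by
    obtain ⟨a, ha⟩ := hdec x
    have ham : a ∈ m := by
      have := sub_mem hx (hIM ha)
      rwa [sub_sub_cancel] at this
    have h2 : I ≤ m := Ideal.map_le_iff_le_comap.1 hIM
    have := add_mem (Ideal.map_mono h2 ha) (Ideal.mem_map_of_mem (algebraMap A C) ham)
    rwa [sub_add_cancel] at this
  let R := Localization.AtPrime m
  let T := Localization.AtPrime M
  letI : Algebra R T := (Localization.localRingHom m M (algebraMap A C) rfl).toAlgebra
  haveI : IsScalarTower A R T := IsScalarTower.of_algebraMap_eq fun a =>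
    (Localization.localRingHom_to_map m M (algebraMap A C) rfl a).symm
  haveI : IsLocalHom (algebraMap R T) := Localization.isLocalHom_localRingHom _ _ _ _
  haveI : Module.Flat A T := Module.Flat.trans A C T
  haveI : Module.Flat R T := (Module.flat_iff_of_isLocalization R m.primeCompl (M := T)).mpr inferInstance
  haveI : IsNoetherianRing R := IsLocalization.isNoetherianRing m.primeCompl _ inferInstance
  haveI : IsNoetherianRing T := IsLocalization.isNoetherianRing M.primeCompl _ inferInstance
  have hm : (maximalIdeal R).map (algebraMap R T) = maximalIdeal T := by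
    rw [← Localization.AtPrime.map_eq_maximalIdeal, Ideal.map_map, ← IsScalarTower.algebraMap_eq,
      IsScalarTower.algebraMap_eq A C T, ← Ideal.map_map, hmM]
    exact Localization.AtPrime.map_eq_maximalIdeal
  have hk : Function.Bijective (ResidueField.map (algebraMap R T)) := by
    refine ⟨RingHom.injective _, fun x => ?_⟩
    obtain ⟨t, rfl⟩ := residue_surjective x
    obtain ⟨c, hc⟩ : ∃ c : C, residue T t = residue T (algebraMap C T c) := by
      obtain ⟨c, s, rfl⟩ := IsLocalization.exists_mk'_eq M.primeCompl t
      obtain ⟨y, i, hi, hy⟩ := hM.exists_inv s.2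
      refine ⟨c * y, Ideal.Quotient.eq.2 ?_⟩
      have h1 : IsLocalization.mk' T c s - algebraMap C T (c * y) =
          IsLocalization.mk' T c s * algebraMap C T i := by
        rw [show i = 1 - y * (s : C) by linear_combination hy, map_sub, map_one, map_mul, map_mul,
          mul_sub, mul_one, mul_left_comm, IsLocalization.mk'_spec, mul_comm]
      rw [h1, ← Localization.AtPrime.map_eq_maximalIdeal]
      exact Ideal.mul_mem_left _ _ (Ideal.mem_map_of_mem _ hi)
    obtain ⟨a, ha⟩ := hdec c
    refine ⟨residue R (algebraMap A R a), ?_⟩
    rw [hc, ResidueField.map_residue, ← IsScalarTower.algebraMap_apply]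
    refine Ideal.Quotient.eq.2 ?_
    rw [IsScalarTower.algebraMap_apply A C T, ← map_sub, ← Localization.AtPrime.map_eq_maximalIdeal]
    exact Ideal.mem_map_of_mem _ (by simpa using neg_mem (hIM ha))
  exact (GrothLib.GeomReg.isRegularHom_localization_left (R := A) (R' := R) m.primeCompl).mp
    (isRegularHom_of_completion hm hk (hA.2 m))

end Smoothing.Approx
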