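import Groth.Agent.Lib.Smoothing.Approx.Basic
import Groth.Agent.Lib.Smoothing.Approx.GRing
import Groth.Agent.Lib.Ratliff.Excellent
import Groth.Agent.Lib.Smoothing.Retract
import Groth.Agent.Lib.Hensel.Pair
import Mathlib.RingTheory.RingHom.StandardSmooth
import Mathlib.RingTheory.Idempotents
import Mathlib.RingTheory.Etale.Basic

/-!
# Approximation by solutions in étale neighbourhoods
-/

set_option autoImplicit false
set_option backward.isDefEq.respectTransparency false

universe u

open scoped TensorProduct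

namespace Smoothing.Approx

/-- A point of a smooth algebra modulo an ideal lifts to an étale algebra with a point. -/
theorem exists_etale_of_smooth {A : Type u} [CommRing A] (J : Ideal A) (B : Type u) [CommRing B]
    [Algebra A B] [Algebra.Smooth A B] (σ : B →ₐ[A] A ⧸ J) :
    ∃ (E : Type u) (_ : CommRing E) (_ : Algebra A E),
      Algebra.Etale A E ∧ ∃ (χ : B →ₐ[A] E) (τ : E →ₐ[A] A ⧸ J), τ.comp χ = σ := by
  obtain ⟨C, _, _, _, _, -, ⟨r⟩, hC⟩ := exists_smooth_retract_isStandardSmooth (R := A) (A := B)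
  obtain ⟨n, g, hgC, hg⟩ :=
    RingHom.IsStandardSmooth.exists_etale_mvPolynomial (f := algebraMap A C)
      (RingHom.isStandardSmooth_algebraMap.2 hC)
  let σ' : C →ₐ[A] A ⧸ J := σ.comp (r.restrictScalars A)
  choose a ha using fun i => Ideal.Quotient.mk_surjective (σ' (g (MvPolynomial.X i)))
  letI := g.toAlgebra
  haveI : Algebra.Etale (MvPolynomial (Fin n) A) C := RingHom.etale_algebraMap.1 hg
  haveI : IsScalarTower A (MvPolynomial (Fin n) A) C :=
    IsScalarTower.of_algebraMap_eq fun x => (RingHom.congr_fun hgC x).symm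
  letI : Algebra (MvPolynomial (Fin n) A) A := (MvPolynomial.aeval a : _ →ₐ[A] A).toRingHom.toAlgebra
  haveI : IsScalarTower A (MvPolynomial (Fin n) A) A :=
    IsScalarTower.of_algebraMap_eq fun x => ((MvPolynomial.aeval a : _ →ₐ[A] A).commutes x).symm
  letI : Algebra (MvPolynomial (Fin n) A) (A ⧸ J) :=
    ((Ideal.Quotient.mk J).comp (algebraMap (MvPolynomial (Fin n) A) A)).toAlgebra
  haveI : IsScalarTower (MvPolynomial (Fin n) A) A (A ⧸ J) := IsScalarTower.of_algebraMap_eq fun _ => rfl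
  haveI : IsScalarTower A (MvPolynomial (Fin n) A) (A ⧸ J) :=
    IsScalarTower.of_algebraMap_eq fun x =>
      (congrArg (Ideal.Quotient.mk J) ((MvPolynomial.aeval a : _ →ₐ[A] A).commutes x)).symm
  have hcomp : σ'.comp (IsScalarTower.toAlgHom A (MvPolynomial (Fin n) A) C) =
      IsScalarTower.toAlgHom A (MvPolynomial (Fin n) A) (A ⧸ J) :=
    MvPolynomial.algHom_ext fun i => by
      rw [AlgHom.comp_apply]
      change σ' (g (MvPolynomial.X i)) = Ideal.Quotient.mk J (MvPolynomial.aeval a (MvPolynomial.X i))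
      rw [MvPolynomial.aeval_X, ha]
  let σP : C →ₐ[MvPolynomial (Fin n) A] A ⧸ J :=
    { σ'.toRingHom with commutes' := fun p => AlgHom.congr_fun hcomp p }
  let τ : A ⊗[MvPolynomial (Fin n) A] C →ₐ[A] A ⧸ J :=
    Algebra.TensorProduct.lift (Algebra.ofId A (A ⧸ J)) σP fun _ _ => Commute.all _ _
  refine ⟨A ⊗[MvPolynomial (Fin n) A] C, inferInstance, inferInstance, inferInstance,
    ((Algebra.TensorProduct.includeRight : C →ₐ[MvPolynomial (Fin n) A] _).restrictScalars A).comp
      (IsScalarTower.toAlgHom A B C), τ, AlgHom.ext fun b => ?_⟩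
  change τ ((1 : A) ⊗ₜ[MvPolynomial (Fin n) A] algebraMap B C b) = σ b
  rw [Algebra.TensorProduct.lift_tmul, map_one, one_mul]
  change σ (r (algebraMap B C b)) = σ b
  rw [r.commutes]
  rfl

/-- An étale algebra with a point modulo `J` localizes to one that is trivial modulo `J`. -/
theorem exists_away_of_etale {A : Type u} [CommRing A] [IsNoetherianRing A] (J : Ideal A) (E : Type u)
    [CommRing E] [Algebra A E] [Algebra.Etale A E] (τ : E →ₐ[A] A ⧸ J) :
    ∃ (E' : Type u) (_ : CommRing E') (_ : Algebra A E'), Algebra.Etale A E' ∧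
      ∃ (ι : E →ₐ[A] E') (τ' : E' →ₐ[A] A ⧸ J),
        τ'.comp ι = τ ∧ RingHom.ker τ'.toRingHom = J.map (algebraMap A E') := by
  haveI : IsNoetherianRing E := Algebra.FiniteType.isNoetherianRing A E
  set K := RingHom.ker τ.toRingHom with hK
  set JE := J.map (algebraMap A E)
  have hJK : JE ≤ K := Ideal.map_le_iff_le_comap.2 fun a ha =>
    (τ.commutes a).trans (Ideal.Quotient.eq_zero_iff_mem.2 ha)
  have hsurj : ∀ x, ∃ a, x - algebraMap A E a ∈ K := fun x => by
    obtain ⟨a, ha⟩ := Ideal.Quotient.mk_surjective (τ x)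
    refine ⟨a, ?_⟩
    rw [hK, RingHom.mem_ker]
    change τ (x - algebraMap A E a) = 0
    rw [map_sub, τ.commutes, ← ha, Ideal.Quotient.algebraMap_eq, sub_self]
  -- the kernel is idempotent modulo `J`
  have hle : K ≤ K * K ⊔ JE := by
    set L := K * K ⊔ JE
    let q : A ⧸ J →ₐ[A] E ⧸ L := Ideal.Quotient.liftₐ J (Algebra.ofId A _) fun a ha =>
      Ideal.Quotient.eq_zero_iff_mem.2 (Ideal.mem_sup_right (Ideal.mem_map_of_mem _ ha))
    have hnil : (K.map (Ideal.Quotient.mk L)) ^ 2 = ⊥ := by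
      rw [← Ideal.map_pow, Ideal.map_eq_bot_iff_le_ker, Ideal.mk_ker, pow_two]
      exact le_sup_left
    have heq : Ideal.Quotient.mkₐ A L = q.comp τ := by
      refine Algebra.FormallyUnramified.ext (K.map (Ideal.Quotient.mk L)) ⟨2, hnil⟩ fun x => ?_
      obtain ⟨a, ha⟩ := hsurj x
      have hτ : τ x = algebraMap A (A ⧸ J) a := by
        rw [← sub_eq_zero, ← τ.commutes, ← map_sub]
        exact ha
      rw [Ideal.Quotient.eq, AlgHom.comp_apply, hτ, q.commutes, Ideal.Quotient.mkₐ_eq_mk,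
        show algebraMap A (E ⧸ L) a = Ideal.Quotient.mk L (algebraMap A E a) from rfl, ← map_sub]
      exact Ideal.mem_map_of_mem _ ha
    intro x hx
    have := AlgHom.congr_fun heq x
    rw [AlgHom.comp_apply, show τ x = 0 from hx, map_zero, Ideal.Quotient.mkₐ_eq_mk] at this
    exact Ideal.Quotient.eq_zero_iff_mem.1 this
  have hidem : IsIdempotentElem (K.map (Ideal.Quotient.mk JE)) := by
    refine le_antisymm Ideal.mul_le_left ?_
    rw [← Ideal.map_mul]
    refine (Ideal.map_mono hle).trans ?_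
    rw [Ideal.map_sup, show JE.map (Ideal.Quotient.mk JE) = ⊥ from Ideal.map_quotient_self JE, sup_bot_eq]
  obtain ⟨ē, hē, hKē⟩ := (Ideal.isIdempotentElem_iff_of_fg _ (IsNoetherian.noetherian _)).1 hidem
  obtain ⟨e, rfl⟩ := Ideal.Quotient.mk_surjective ē
  set f := 1 - e
  have hef : e * f ∈ JE := by
    rw [← Ideal.Quotient.eq_zero_iff_mem, map_mul, map_sub, map_one, mul_sub, mul_one, hē.eq, sub_self]
  have hKe : ∀ x ∈ K, ∃ r, x - r * e ∈ JE := fun x hx => by
    have h1 : Ideal.Quotient.mk JE x ∈ K.map (Ideal.Quotient.mk JE) := Ideal.mem_map_of_mem _ hx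
    rw [hKē, Ideal.submodule_span_eq, Ideal.mem_span_singleton'] at h1
    obtain ⟨r, hr⟩ := h1
    obtain ⟨r, rfl⟩ := Ideal.Quotient.mk_surjective r
    exact ⟨r, Ideal.Quotient.eq.1 (by rw [map_mul, hr])⟩
  have heK : e ∈ K := by
    have h1 : Ideal.Quotient.mk JE e ∈ K.map (Ideal.Quotient.mk JE) := by
      rw [hKē, Ideal.submodule_span_eq]
      exact Ideal.mem_span_singleton_self _
    rw [Ideal.mem_map_iff_of_surjective _ Ideal.Quotient.mk_surjective] at h1
    obtain ⟨k, hk, hke⟩ := h1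
    have := sub_mem hk (hJK (Ideal.Quotient.eq.1 hke))
    rwa [sub_sub_cancel] at this
  have hτf : IsUnit (τ f) := by
    rw [map_sub, map_one, show τ e = 0 from heK, sub_zero]
    exact isUnit_one
  let E' := Localization.Away f
  haveI : Algebra.Etale E E' := .of_isLocalizationAway f
  haveI : Algebra.Etale A E' := Algebra.Etale.comp A E E'
  let τ' : E' →ₐ[A] A ⧸ J := IsLocalization.Away.liftAlgHom f hτf
  have hτ' : ∀ x, τ' (algebraMap E E' x) = τ x := fun x => IsLocalization.Away.lift_eq f hτf x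
  refine ⟨E', inferInstance, inferInstance, inferInstance, IsScalarTower.toAlgHom A E E', τ',
    AlgHom.ext hτ', le_antisymm (fun y hy => ?_) (Ideal.map_le_iff_le_comap.2 fun a ha =>
      (τ'.commutes a).trans (Ideal.Quotient.eq_zero_iff_mem.2 ha))⟩
  obtain ⟨k, x, hx⟩ := IsLocalization.Away.surj f y
  have hxK : x ∈ K := by
    change τ x = 0
    rw [← hτ', ← hx, map_mul, show τ' y = 0 from hy, zero_mul]
  obtain ⟨r, hr⟩ := hKe x hxK
  have hmap : J.map (algebraMap A E') = JE.map (algebraMap E E') := by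
    rw [Ideal.map_map, ← IsScalarTower.algebraMap_eq]
  have hxf : x * f ∈ JE := by
    have := add_mem (Ideal.mul_mem_right f _ hr) (Ideal.mul_mem_left _ r hef)
    convert this using 1
    ring
  have hyf := Ideal.mem_map_of_mem (algebraMap E E') hxf
  rw [map_mul, ← hx, mul_assoc, ← pow_succ] at hyf
  rw [hmap]
  exact (Ideal.mul_unit_mem_iff_mem _ ((IsLocalization.Away.algebraMap_isUnit f).pow (k + 1))).1 hyf

/-- Approximation in étale neighbourhoods of maps to a completion with regular completion map. -/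
theorem exists_etale_approx {A : Type u} [CommRing A] [IsNoetherianRing A] (I : Ideal A)
    (hreg : CAlg.IsRegularHom A (AdicCompletion I A)) (C : Type u) [CommRing C] [Algebra A C]
    [Algebra.FinitePresentation A C] (φ : C →ₐ[A] AdicCompletion I A) (N : ℕ) :
    ∃ (E : Type u) (_ : CommRing E) (_ : Algebra A E), Algebra.Etale A E ∧
      ∃ (χ : C →ₐ[A] E) (τ : E →ₐ[A] A ⧸ I ^ N),
        τ.comp χ = (AdicCompletion.evalₐ I N).comp φ ∧
        RingHom.ker τ.toRingHom = (I ^ N).map (algebraMap A E) := by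
  obtain ⟨B, _, _, _, g, h, rfl⟩ := Popescu.indSmooth_of_isRegularHom hreg C inferInstance φ
  obtain ⟨E, _, _, _, χ, τ, hτ⟩ := exists_etale_of_smooth (I ^ N) B ((AdicCompletion.evalₐ I N).comp h)
  obtain ⟨E', _, _, hE', ι, τ', hι, hker⟩ := exists_away_of_etale (I ^ N) E τ
  refine ⟨E', inferInstance, inferInstance, hE', (ι.comp χ).comp g, τ', ?_, hker⟩
  rw [← AlgHom.comp_assoc, ← AlgHom.comp_assoc, hι, hτ, AlgHom.comp_assoc]

/-- The point modulo a power of `I` of an étale algebra extends to the completion. -/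
theorem exists_algHom_completion {A : Type u} [CommRing A] [IsNoetherianRing A] (I : Ideal A)
    (E : Type u) [CommRing E] [Algebra A E] [Algebra.Etale A E] (N : ℕ) (hN : N ≠ 0)
    (τ : E →ₐ[A] A ⧸ I ^ N) :
    ∃ ψ : E →ₐ[A] AdicCompletion I A, (AdicCompletion.evalₐ I N).comp ψ = τ := by
  set C := AdicCompletion I A
  haveI : IsAdicComplete (I.map (algebraMap A C)) C :=
    AdicCompletion.isAdicComplete_self I I.fg_of_isNoetherianRing
  haveI : HenselianRing C ((I.map (algebraMap A C)) ^ N) :=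
    GrothLib.Hensel.henselianRing_of_le (Ideal.pow_le_self hN)
  have hker : RingHom.ker (AdicCompletion.evalₐ I N).toRingHom = (I.map (algebraMap A C)) ^ N :=
    GrothLib.AdicFS.ker_evalₐ I.fg_of_isNoetherianRing N
  let e : (C ⧸ RingHom.ker (AdicCompletion.evalₐ I N).toRingHom) ≃ₐ[A] A ⧸ I ^ N :=
    Ideal.quotientKerAlgEquivOfSurjective (AdicCompletion.surjective_evalₐ I N)
  let e' := (Ideal.quotientEquivAlgOfEq A hker.symm).trans e
  obtain ⟨ψ, hψ⟩ := GrothLib.Hensel.exists_algHom_lift (R := A) (I := (I.map (algebraMap A C)) ^ N)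
    (e'.symm.toAlgHom.comp τ)
  refine ⟨ψ, AlgHom.ext fun x => ?_⟩
  have h1 := congrArg e' (AlgHom.congr_fun hψ x)
  rw [AlgHom.comp_apply (e'.symm.toAlgHom)] at h1
  exact h1.trans (e'.apply_symm_apply _)

end Smoothing.Approx
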