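import Groth.Agent.Lib.Smoothing.Approx.Functor
import Mathlib.Algebra.Category.CommAlgCat.Basic
import Mathlib.CategoryTheory.Limits.Preserves.Filtered

/-!
# Functors on algebras preserving filtered colimits see finitely presented algebras
-/

set_option autoImplicit false

universe u

open CategoryTheory Limits

namespace Smoothing.Approx

/-- Algebras from rings under the base. -/
abbrev toAlgCat (A : Type u) [CommRing A] : Under (CommRingCat.of A) ⥤ CommAlgCat.{u} A :=
  (commAlgCatEquivUnder (CommRingCat.of A)).inverse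

/-- The algebra of the ring under the base of an algebra is that algebra. -/
def underIso (R : CommRingCat.{u}) (B : Type u) [CommRing B] [Algebra R B] :
    (commAlgCatEquivUnder R).inverse.obj (Under.mk (CommRingCat.ofHom (algebraMap R B))) ≅ CommAlgCat.of R B :=
  CommAlgCat.isoMk { toRingEquiv := RingEquiv.refl B, commutes' := fun _ => rfl }

/-- The algebra of the ring under the base of an algebra is that algebra. -/
def toAlgCatIso (A B : Type u) [CommRing A] [CommRing B] [Algebra A B] :
    (toAlgCat A).obj (Under.mk (CommRingCat.ofHom (algebraMap A B))) ≅ CommAlgCat.of A B :=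
  @underIso (CommRingCat.of A) B _ (inferInstanceAs (Algebra A B))

/-- An element of `F B` comes from a finitely presented algebra over `B`. -/
theorem exists_fp_preimage_alg {A : Type u} [CommRing A] (B : Type u) [CommRing B] [Algebra A B]
    (F : CommAlgCat.{u} A ⥤ Type u) [PreservesFilteredColimitsOfSize.{u, u} F]
    (ξ : F.obj (CommAlgCat.of A B)) :
    ∃ (C : Type u) (_ : CommRing C) (_ : Algebra A C) (_ : Algebra.FinitePresentation A C)
      (ι : C →ₐ[A] B) (x : F.obj (CommAlgCat.of A C)), F.map (CommAlgCat.ofHom ι) x = ξ := by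
  haveI : PreservesColimitsOfShape (GrothLib.FPCrit.FPIndex A B) F :=
    PreservesFilteredColimitsOfSize.preserves_filtered_colimits _
  obtain ⟨S, x, hx⟩ := Types.jointly_surjective _
    (isColimitOfPreserves (toAlgCat A ⋙ F) (GrothLib.FPCrit.isColimitFpCocone A B))
    (F.map (toAlgCatIso A B).inv ξ)
  let C := MvPolynomial ↥S.1 A ⧸ S.2.1
  let g : (toAlgCat A).obj ((GrothLib.FPCrit.fpUnder A B).obj S) ⟶
      (toAlgCat A).obj (Under.mk (CommRingCat.ofHom (algebraMap A B))) :=
    (toAlgCat A).map ((GrothLib.FPCrit.fpCocone A B).ι.app S)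
  let ι : CommAlgCat.of A C ⟶ CommAlgCat.of A B := (toAlgCatIso A C).inv ≫ g ≫ (toAlgCatIso A B).hom
  refine ⟨C, inferInstance, inferInstance, Algebra.FinitePresentation.quotient S.2.2.1, ι.hom,
    F.map (toAlgCatIso A C).hom x, ?_⟩
  have hx' : F.map g x = F.map (toAlgCatIso A B).inv ξ := hx
  show (F.map (toAlgCatIso A C).hom ≫ F.map ι) x = ξ
  rw [← F.map_comp, show (toAlgCatIso A C).hom ≫ ι = g ≫ (toAlgCatIso A B).hom from
    (toAlgCatIso A C).hom_inv_id_assoc _]
  show (F.map (g ≫ (toAlgCatIso A B).hom)) x = ξ
  rw [Functor.map_comp_apply, hx', ← Functor.map_comp_apply, (toAlgCatIso A B).inv_hom_id, Functor.map_id_apply]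

end Smoothing.Approx
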