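import Groth.Agent.Lib.Smoothing.Popescu.Main
import Groth.Agent.Lib.Hensel.SmoothLift
import Groth.Agent.Lib.Hensel.Properties
import Groth.Agent.Lib.AdicExtra.Completion
import Groth.Agent.Lib.AdicFS.Complete

/-!
# Artin approximation for henselian pairs with regular completion map
-/

set_option autoImplicit false

universe u

namespace Smoothing.Approx

open MvPolynomial

theorem factor_evalₐ {A : Type u} [CommRing A] (I : Ideal A) {m n : ℕ} (hmn : m ≤ n)
    (x : AdicCompletion I A) :
    Ideal.Quotient.factor (Ideal.pow_le_pow_right hmn) (AdicCompletion.evalₐ I n x) =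
      AdicCompletion.evalₐ I m x := by
  induction x using AdicCompletion.induction_on with
  | h a =>
    rw [AdicCompletion.evalₐ_mk, AdicCompletion.evalₐ_mk, Ideal.Quotient.factor_mk, Ideal.Quotient.eq]
    simpa [SModEq.sub_mem] using (a.property hmn).symm

/-- An algebra map from a finitely presented algebra to the completion of a henselian pair with
regular completion map agrees to any order with an algebra map to the ring itself. -/
theorem exists_algHom_approx {A : Type u} [CommRing A] [IsNoetherianRing A] (I : Ideal A)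
    [HenselianRing A I] (hreg : CAlg.IsRegularHom A (AdicCompletion I A))
    (C : Type u) [CommRing C] [Algebra A C] [Algebra.FinitePresentation A C]
    (φ : C →ₐ[A] AdicCompletion I A) (N : ℕ) :
    ∃ ψ : C →ₐ[A] A, (Ideal.Quotient.mkₐ A (I ^ N)).comp ψ = (AdicCompletion.evalₐ I N).comp φ := by
  obtain ⟨B, _, _, _, g, h, hgh⟩ := Popescu.indSmooth_of_isRegularHom hreg C inferInstance φ
  haveI : HenselianRing A (I ^ (N + 1)) :=
    GrothLib.Hensel.henselianRing_of_le (Ideal.pow_le_self N.succ_ne_zero)
  obtain ⟨τ, hτ⟩ := GrothLib.Hensel.exists_algHom_lift_of_smooth (I := I ^ (N + 1))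
    ((AdicCompletion.evalₐ I (N + 1)).comp h)
  refine ⟨τ.comp g, AlgHom.ext fun c => ?_⟩
  have h1 := AlgHom.congr_fun hτ (g c)
  have h2 : h (g c) = φ c := AlgHom.congr_fun hgh c
  rw [AlgHom.comp_apply, AlgHom.comp_apply, h2] at h1
  have h3 := congrArg (Ideal.Quotient.factor (Ideal.pow_le_pow_right (m := N) (n := N + 1) (Nat.le_succ N))) h1
  rw [factor_evalₐ I (Nat.le_succ N)] at h3
  simpa using h3

/-- Polynomial systems: approximation by exact solutions. -/
theorem exists_eval_approx {A : Type u} [CommRing A] [IsNoetherianRing A] (I : Ideal A)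
    [HenselianRing A I] (hreg : CAlg.IsRegularHom A (AdicCompletion I A)) {n m : ℕ}
    (F : Fin m → MvPolynomial (Fin n) A) (a : Fin n → AdicCompletion I A)
    (ha : ∀ j, aeval a (F j) = 0) (N : ℕ) :
    ∃ b : Fin n → A, (∀ j, eval b (F j) = 0) ∧
      ∀ i, Ideal.Quotient.mk (I ^ N) (b i) = AdicCompletion.evalₐ I N (a i) := by
  classical
  have hle : ∀ x ∈ Ideal.span (Set.range F), aeval a x = 0 := by
    intro x hx
    refine (Ideal.span_le (I := RingHom.ker (aeval a : MvPolynomial (Fin n) A →ₐ[A] _))).2 ?_ hx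
    rintro - ⟨j, rfl⟩
    exact ha j
  haveI : Algebra.FinitePresentation A (MvPolynomial (Fin n) A ⧸ Ideal.span (Set.range F)) :=
    Algebra.FinitePresentation.quotient (Submodule.fg_span (Set.finite_range F))
  obtain ⟨ψ, hψ⟩ := exists_algHom_approx I hreg (MvPolynomial (Fin n) A ⧸ Ideal.span (Set.range F))
    (Ideal.Quotient.liftₐ _ (aeval a) hle) N
  refine ⟨fun i => ψ (Ideal.Quotient.mk _ (X i)), fun j => ?_, fun i => ?_⟩
  · have hb : (aeval fun i => ψ (Ideal.Quotient.mk _ (X i))) =
        ψ.comp (Ideal.Quotient.mkₐ A (Ideal.span (Set.range F))) := algHom_ext fun i => by simp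
    rw [← coe_aeval_eq_eval]
    change (aeval fun i => ψ (Ideal.Quotient.mk _ (X i))) (F j) = 0
    rw [hb, AlgHom.comp_apply, Ideal.Quotient.mkₐ_eq_mk,
      Ideal.Quotient.eq_zero_iff_mem.2 (Ideal.subset_span (Set.mem_range_self j)), map_zero]
  · simpa using AlgHom.congr_fun hψ (Ideal.Quotient.mk _ (X i))

theorem sub_algebraMap_mem_map_pow {A : Type u} [CommRing A] {I : Ideal A} (hI : I.FG)
    (x : AdicCompletion I A) (b : A) (N : ℕ)
    (h : Ideal.Quotient.mk (I ^ N) b = AdicCompletion.evalₐ I N x) :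
    x - algebraMap A (AdicCompletion I A) b ∈ (I ^ N).map (algebraMap A (AdicCompletion I A)) := by
  rw [Ideal.map_pow, ← GrothLib.AdicFS.ker_evalₐ hI, RingHom.mem_ker, map_sub,
    GrothLib.AdicFS.evalₐ_algebraMap, h, sub_self]

/-- The same, in the form of a congruence in the completion. -/
theorem exists_eval_approx_mem {A : Type u} [CommRing A] [IsNoetherianRing A] (I : Ideal A)
    [HenselianRing A I] (hreg : CAlg.IsRegularHom A (AdicCompletion I A)) {n m : ℕ}
    (F : Fin m → MvPolynomial (Fin n) A) (a : Fin n → AdicCompletion I A)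
    (ha : ∀ j, eval a (map (algebraMap A (AdicCompletion I A)) (F j)) = 0) (N : ℕ) :
    ∃ b : Fin n → A, (∀ j, eval b (F j) = 0) ∧
      ∀ i, a i - algebraMap A (AdicCompletion I A) (b i) ∈
        (I ^ N).map (algebraMap A (AdicCompletion I A)) := by
  obtain ⟨b, hb, hbN⟩ := exists_eval_approx I hreg F a
    (fun j => by rw [aeval_def, ← eval_map]; exact ha j) N
  exact ⟨b, hb, fun i => sub_algebraMap_mem_map_pow (IsNoetherian.noetherian I) _ _ N (hbN i)⟩

end Smoothing.Approx
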