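import Groth.Agent.Lib.Smoothing.Approx.EtaleMor
import Groth.Agent.Lib.GeomReg.FiniteGRing
import Groth.Agent.Lib.LocProp.AtPrime
import Mathlib.RingTheory.Etale.Locus
import Mathlib.RingTheory.AdicCompletion.Functoriality

/-!
# Common étale neighbourhoods of points with isomorphic completions
-/

set_option autoImplicit false
set_option backward.isDefEq.respectTransparency false

universe u

open IsLocalRing

namespace Smoothing.Approx

section completion

variable {R : Type u} [CommRing R] [IsLocalRing R] [IsNoetherianRing R]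

theorem ker_evalₐ_maximal (k : ℕ) : RingHom.ker (AdicCompletion.evalₐ (maximalIdeal R) k).toRingHom =
    maximalIdeal (AdicCompletion (maximalIdeal R) R) ^ k := by
  rw [AdicCompletion.maximalIdeal_eq_map]
  exact GrothLib.AdicFS.ker_evalₐ (IsNoetherian.noetherian _) k

theorem evalₐ_eq_mk_iff (k : ℕ) (x : AdicCompletion (maximalIdeal R) R) (c : R) :
    AdicCompletion.evalₐ (maximalIdeal R) k x = Ideal.Quotient.mk _ c ↔
      x - algebraMap R _ c ∈ maximalIdeal (AdicCompletion (maximalIdeal R) R) ^ k := by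
  rw [← ker_evalₐ_maximal, RingHom.mem_ker]
  show _ ↔ AdicCompletion.evalₐ _ _ (_ - _) = 0
  rw [map_sub, AlgHom.commutes, Ideal.Quotient.algebraMap_eq, sub_eq_zero]

theorem exists_sub_mem_pow (k : ℕ) (x : AdicCompletion (maximalIdeal R) R) :
    ∃ c : R, x - algebraMap R _ c ∈ maximalIdeal (AdicCompletion (maximalIdeal R) R) ^ k := by
  obtain ⟨c, hc⟩ := Ideal.Quotient.mk_surjective (AdicCompletion.evalₐ (maximalIdeal R) k x)
  exact ⟨c, (evalₐ_eq_mk_iff k x c).1 hc.symm⟩

theorem mem_pow_of_algebraMap_mem {k : ℕ} {c : R}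
    (h : algebraMap R (AdicCompletion (maximalIdeal R) R) c ∈
      maximalIdeal (AdicCompletion (maximalIdeal R) R) ^ k) : c ∈ maximalIdeal R ^ k := by
  have := (evalₐ_eq_mk_iff k (algebraMap R (AdicCompletion (maximalIdeal R) R) c) 0).2 (by rwa [map_zero, sub_zero])
  rwa [AlgHom.commutes, Ideal.Quotient.algebraMap_eq, map_zero, Ideal.Quotient.eq_zero_iff_mem] at this

end completion

/-- A map out of a localisation at a prime, to a local ring, is local if the prime is the preimage
of the maximal ideal. -/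
theorem map_maximalIdeal_le {C Cx Eu : Type u} [CommRing C] [CommRing Cx] [IsLocalRing Cx] [Algebra C Cx]
    [CommRing Eu] [IsLocalRing Eu] (P : Ideal C) [P.IsPrime] [IsLocalization.AtPrime Cx P] (ι : Cx →+* Eu)
    (h : (maximalIdeal Eu).comap (ι.comp (algebraMap C Cx)) = P) :
    (maximalIdeal Cx).map ι ≤ maximalIdeal Eu := by
  rw [← IsLocalization.AtPrime.map_eq_maximalIdeal P Cx, Ideal.map_map, Ideal.map_le_iff_le_comap, h]

/-- An endomorphism of a complete Noetherian local ring which is the identity modulo the square of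
the maximal ideal is bijective. -/
theorem bijective_of_sub_mem_sq {R : Type u} [CommRing R] [IsLocalRing R] [IsNoetherianRing R]
    [IsAdicComplete (maximalIdeal R) R] (σ : R →+* R) (h : ∀ x, σ x - x ∈ maximalIdeal R ^ 2) :
    Function.Bijective σ := by
  have hmap : (maximalIdeal R).map σ = maximalIdeal R := by
    refine le_antisymm (Ideal.map_le_iff_le_comap.2 fun x hx => ?_) ?_
    · rw [Ideal.mem_comap, ← sub_add_cancel (σ x) x]
      exact add_mem (Ideal.pow_le_self two_ne_zero (h x)) hx
    · refine Submodule.le_of_le_smul_of_le_jacobson_bot (IsNoetherian.noetherian _)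
        (maximalIdeal_le_jacobson ⊥) fun x hx => ?_
      rw [← sub_sub_cancel (σ x) x, smul_eq_mul, ← sq]
      exact Submodule.sub_mem _ (Submodule.mem_sup_left (Ideal.mem_map_of_mem σ hx))
        (Submodule.mem_sup_right (h x))
  have hsurj : Function.Surjective σ := by
    haveI : IsHausdorff ((maximalIdeal R).map σ) R := by rw [hmap]; infer_instance
    refine surjective_of_mk_map_comp_surjective (I := maximalIdeal R) σ fun z => ?_
    obtain ⟨x, rfl⟩ := Ideal.Quotient.mk_surjective z
    exact ⟨x, Ideal.Quotient.eq.2 (hmap.symm ▸ Ideal.pow_le_self two_ne_zero (h x))⟩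
  refine ⟨(injective_iff_map_eq_zero σ).2 fun x hx => ?_, hsurj⟩
  let f : ℕ →o Ideal R := ⟨fun n => RingHom.ker (σ ^ n : R →+* R), monotone_nat_of_le_succ fun n y hy => by
    show (σ ^ (n + 1) : R →+* R) y = 0
    rw [pow_succ', RingHom.mul_def, RingHom.comp_apply, show (σ ^ n : R →+* R) y = 0 from hy, map_zero]⟩
  obtain ⟨n, hn⟩ := monotone_stabilizes_iff_noetherian.2 inferInstance f
  obtain ⟨y, rfl⟩ := (show Function.Surjective (σ ^ n : R →+* R) by
    rw [RingHom.coe_pow]; exact hsurj.iterate n) x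
  have h1 : y ∈ f (n + 1) := by
    show (σ ^ (n + 1) : R →+* R) y = 0
    rw [pow_succ', RingHom.mul_def, RingHom.comp_apply, hx]
  rw [← hn (n + 1) n.le_succ] at h1
  exact h1

/-- An algebra of finite type is étale near a prime where it is flat and unramified without residue
field extension. -/
theorem exists_etale_away {B E By : Type u} [CommRing B] [IsNoetherianRing B] [CommRing E] [Algebra B E]
    [Algebra.FiniteType B E] (u : Ideal E) [u.IsPrime] [CommRing By] [IsLocalRing By] [Algebra B By]
    [IsLocalization.AtPrime By (u.under B)] (ι : By →+* Localization.AtPrime u)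
    (hι : ∀ b, ι (algebraMap B By b) = algebraMap E _ (algebraMap B E b))
    (hflat : ι.Flat) (hmax : (maximalIdeal By).map ι = maximalIdeal (Localization.AtPrime u))
    (hres : ∀ t, ∃ b, t - ι b ∈ maximalIdeal (Localization.AtPrime u)) :
    ∃ g ∉ u, Algebra.Etale B (Localization.Away g) := by
  let Lq := Localization.AtPrime (u.under B)
  letI := Localization.AtPrime.algebraOfLiesOver (u.under B) u
  let e := (IsLocalization.algEquiv (u.under B).primeCompl Lq By).toRingEquiv
  have he : algebraMap Lq (Localization.AtPrime u) = ι.comp e.toRingHom :=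
    IsLocalization.ringHom_ext (u.under B).primeCompl (RingHom.ext fun b => by
      show algebraMap Lq _ (algebraMap B Lq b) = ι (e (algebraMap B Lq b))
      rw [← IsScalarTower.algebraMap_apply, IsScalarTower.algebraMap_apply B E,
        show e (algebraMap B Lq b) = algebraMap B By b from AlgEquiv.commutes _ b, hι])
  haveI : Module.Flat Lq (Localization.AtPrime u) := RingHom.flat_algebraMap_iff.1
    (he ▸ RingHom.Flat.comp (RingHom.Flat.of_bijective e.bijective) hflat)
  have hm : (maximalIdeal Lq).map (algebraMap Lq (Localization.AtPrime u)) = maximalIdeal _ := by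
    rw [he, ← Ideal.map_map, ← hmax]
    congr 1
    exact IsLocalRing.map_ringEquiv_maximalIdeal e
  haveI : IsLocalHom (algebraMap Lq (Localization.AtPrime u)) :=
    ((IsLocalRing.local_hom_TFAE _).out 0 2).mpr hm.le
  haveI : Algebra.IsSeparable (ResidueField Lq) (ResidueField (Localization.AtPrime u)) := ⟨fun x => by
    obtain ⟨t, rfl⟩ := residue_surjective x
    obtain ⟨b, hb⟩ := hres t
    have hb' : residue _ t = algebraMap (ResidueField Lq) _ (residue Lq (e.symm b)) := by
      refine (Ideal.Quotient.eq.2 hb).trans ?_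
      show _ = residue _ (algebraMap Lq _ (e.symm b))
      rw [he, RingHom.comp_apply]
      show _ = residue _ (ι (e (e.symm b)))
      rw [e.apply_symm_apply]
      rfl
    rw [hb']
    exact isSeparable_algebraMap _⟩
  haveI : Algebra.EssFiniteType Lq (Localization.AtPrime u) := Algebra.EssFiniteType.of_comp B Lq _
  haveI : Algebra.FormallyUnramified Lq (Localization.AtPrime u) :=
    Algebra.FormallyUnramified.of_map_maximalIdeal hm
  haveI : Algebra.FormallyUnramified B Lq := .of_isLocalization (u.under B).primeCompl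
  haveI : Algebra.IsUnramifiedAt B u := Algebra.FormallyUnramified.comp B Lq _
  haveI : Algebra.FinitePresentation B E := Algebra.FinitePresentation.of_finiteType.1 inferInstance
  haveI : Algebra.IsEtaleAt B u := GrothLib.LocProp.isEtaleAt_of_isUnramifiedAt_of_flat (u.under B) u
  exact Algebra.exists_etale_of_isEtaleAt u

/-- Extension of congruences from a ring to its localisation. -/
theorem sub_mem_pow_of_base {B By Cx Eu : Type u} [CommRing B] [CommRing By] [IsLocalRing By] [Algebra B By]
    (q : Ideal B) [q.IsPrime] [IsLocalization.AtPrime By q] [CommRing Cx] [IsLocalRing Cx] [IsNoetherianRing Cx]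
    [CommRing Eu] [IsLocalRing Eu] (ι : Cx →+* Eu) (ι' : By →+* Eu)
    (hloc : (maximalIdeal Cx).map ι ≤ maximalIdeal Eu)
    (φ : By →+* AdicCompletion (maximalIdeal Cx) Cx) {n k : ℕ} (hk : k ≤ n)
    (h : ∀ b c, φ (algebraMap B By b) - algebraMap Cx _ c ∈ maximalIdeal _ ^ n →
      ι' (algebraMap B By b) - ι c ∈ maximalIdeal Eu ^ n)
    (b : By) (c : Cx) (hbc : φ b - algebraMap Cx _ c ∈ maximalIdeal _ ^ k) :
    ι' b - ι c ∈ maximalIdeal Eu ^ k := by
  obtain ⟨⟨b₀, s⟩, hbs⟩ := IsLocalization.surj q.primeCompl b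
  obtain ⟨c₀, hc₀⟩ := exists_sub_mem_pow n (φ (algebraMap B By b₀))
  obtain ⟨cs, hcs⟩ := exists_sub_mem_pow n (φ (algebraMap B By s))
  have h0 := h _ _ hc₀
  have h1 := h _ _ hcs
  have h2 : c * cs - c₀ ∈ maximalIdeal Cx ^ k := by
    refine mem_pow_of_algebraMap_mem ?_
    have e : algebraMap Cx (AdicCompletion (maximalIdeal Cx) Cx) (c * cs - c₀) =
        (φ (algebraMap B By b₀) - algebraMap Cx _ c₀) -
          (φ b - algebraMap Cx _ c) * φ (algebraMap B By s) -
          algebraMap Cx _ c * (φ (algebraMap B By s) - algebraMap Cx _ cs) := by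
      rw [← hbs, map_sub, map_mul, map_mul]
      ring
    rw [e]
    exact sub_mem (sub_mem (Ideal.pow_le_pow_right hk hc₀) (Ideal.mul_mem_right _ _ hbc))
      (Ideal.mul_mem_left _ _ (Ideal.pow_le_pow_right hk hcs))
  have h3 : ι (c * cs - c₀) ∈ maximalIdeal Eu ^ k :=
    Ideal.pow_right_mono hloc k (Ideal.map_pow ι (maximalIdeal Cx) k ▸ Ideal.mem_map_of_mem ι h2)
  rw [← Ideal.mul_unit_mem_iff_mem _ ((IsLocalization.map_units By s).map ι')]
  have e : (ι' b - ι c) * ι' (algebraMap B By s) =
      (ι' (algebraMap B By b₀) - ι c₀) - ι c * (ι' (algebraMap B By s) - ι cs) - ι (c * cs - c₀) := by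
    rw [← hbs, map_sub, map_mul, map_mul]
    ring
  rw [e]
  exact sub_mem (sub_mem (Ideal.pow_le_pow_right hk h0)
    (Ideal.mul_mem_left _ _ (Ideal.pow_le_pow_right hk h1))) h3

/-- A map of local rings congruent to an isomorphism of completions modulo the square of the maximal
ideal is flat and unramified. -/
theorem flat_and_map_eq_of_congr {By Cx Eu : Type u} [CommRing By] [IsLocalRing By] [IsNoetherianRing By]
    [CommRing Cx] [IsLocalRing Cx] [IsNoetherianRing Cx] [CommRing Eu] [IsLocalRing Eu] [IsNoetherianRing Eu]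
    (ι : Cx →+* Eu) (ι' : By →+* Eu) (hflat : ι.Flat) (hm : (maximalIdeal Cx).map ι = maximalIdeal Eu)
    (hres : ∀ t, ∃ c, t - ι c ∈ maximalIdeal Eu) (hm' : (maximalIdeal By).map ι' ≤ maximalIdeal Eu)
    (φ : AdicCompletion (maximalIdeal By) By ≃+* AdicCompletion (maximalIdeal Cx) Cx)
    (hcong : ∀ b c, φ (algebraMap By _ b) - algebraMap Cx _ c ∈ maximalIdeal _ ^ 2 →
      ι' b - ι c ∈ maximalIdeal Eu ^ 2) :
    ι'.Flat ∧ (maximalIdeal By).map ι' = maximalIdeal Eu := by
  obtain ⟨ψe, hψe, hbe⟩ : ∃ ψe : AdicCompletion (maximalIdeal Cx) Cx →+* AdicCompletion (maximalIdeal Eu) Eu,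
      (∀ c, ψe (algebraMap Cx _ c) = algebraMap Eu _ (ι c)) ∧ Function.Bijective ψe := by
    letI := ι.toAlgebra
    haveI : IsLocalHom (algebraMap Cx Eu) := ((IsLocalRing.local_hom_TFAE _).out 0 2).mpr hm.le
    obtain ⟨ψe, hψe⟩ := GrothLib.GeomReg.exists_completion_map Cx Eu
    haveI : Module.Flat Cx Eu := hflat
    exact ⟨ψe, RingHom.congr_fun hψe, GrothLib.AdicExtra.bijective_completion ψe hψe hm
      ⟨RingHom.injective _, fun x => by
        obtain ⟨t, rfl⟩ := residue_surjective x
        obtain ⟨c, hc⟩ := hres t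
        exact ⟨residue Cx c, (Ideal.Quotient.eq.2 hc).symm⟩⟩⟩
  letI := ι'.toAlgebra
  haveI : IsLocalHom (algebraMap By Eu) := ((IsLocalRing.local_hom_TFAE _).out 0 2).mpr hm'
  obtain ⟨ψf, hψf⟩ := GrothLib.GeomReg.exists_completion_map By Eu
  let M := AdicCompletion (maximalIdeal By) By
  haveI : IsAdicComplete (maximalIdeal M) M := by
    rw [AdicCompletion.maximalIdeal_eq_map]
    exact AdicCompletion.isAdicComplete_self _ (IsNoetherian.noetherian _)
  haveI := GrothLib.AdicExtra.isLocalHom_completion ψf hψf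
  let e := φ.trans (RingEquiv.ofBijective ψe hbe)
  have hle : ∀ {R S : Type u} [CommRing R] [CommRing S] [IsLocalRing R] [IsLocalRing S] (f : R →+* S)
      [IsLocalHom f] (k : ℕ) (x : R), x ∈ maximalIdeal R ^ k → f x ∈ maximalIdeal S ^ k := fun f _ k x hx =>
    Ideal.pow_right_mono (((IsLocalRing.local_hom_TFAE f).out 0 2).mp ‹_›) k
      (Ideal.map_pow f _ k ▸ Ideal.mem_map_of_mem f hx)
  have hbase : ∀ b : By, ψf (algebraMap By M b) - e (algebraMap By M b) ∈ maximalIdeal _ ^ 2 := fun b => by
    obtain ⟨c, hc⟩ := exists_sub_mem_pow 2 (φ (algebraMap By M b))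
    haveI : IsLocalHom (RingEquiv.ofBijective ψe hbe).toRingHom :=
      ⟨fun x hx => (isUnit_map_iff (RingEquiv.ofBijective ψe hbe) x).1 hx⟩
    have h1 := hle (RingEquiv.ofBijective ψe hbe).toRingHom 2 _ hc
    have h2 := hle (algebraMap Eu (AdicCompletion (maximalIdeal Eu) Eu)) 2 _ (hcong b c hc)
    rw [map_sub] at h1 h2
    rw [show (RingEquiv.ofBijective ψe hbe).toRingHom (algebraMap Cx _ c) = algebraMap Eu _ (ι c) from hψe c] at h1
    have h3 := sub_mem h2 h1
    rw [sub_sub_sub_cancel_right] at h3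
    rw [show ψf (algebraMap By M b) = algebraMap Eu _ (ι' b) from RingHom.congr_fun hψf b]
    exact h3
  haveI : IsLocalHom e.toRingHom := ⟨fun x hx => (isUnit_map_iff e x).1 hx⟩
  haveI : IsLocalHom e.symm.toRingHom := ⟨fun x hx => (isUnit_map_iff e.symm x).1 hx⟩
  have hσ : Function.Bijective (e.symm.toRingHom.comp ψf) := bijective_of_sub_mem_sq _ fun x => by
    obtain ⟨b, hb⟩ := exists_sub_mem_pow 2 x
    have h1 : ψf x - e x ∈ maximalIdeal _ ^ 2 := by
      have h2 := sub_mem (hle ψf 2 _ hb) (hle e.toRingHom 2 _ hb)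
      have h3 := add_mem h2 (hbase b)
      convert h3 using 1
      rw [map_sub, map_sub]
      show _ = ψf x - ψf (algebraMap By M b) - (e x - e (algebraMap By M b)) + _
      ring
    have h4 := hle e.symm.toRingHom 2 _ h1
    rw [map_sub] at h4
    rwa [show e.symm.toRingHom (e x) = x from e.symm_apply_apply x] at h4
  have hbf : Function.Bijective ψf := by
    have := e.bijective.comp hσ
    rwa [show ⇑e ∘ ⇑(e.symm.toRingHom.comp ψf) = ⇑ψf from funext fun x => e.apply_symm_apply _] at this
  obtain ⟨h1, h2⟩ := GrothLib.AdicExtra.flat_and_unramified_of_bijective ψf hψf hbf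
  exact ⟨RingHom.flat_algebraMap_iff.2 h1, h2⟩

set_option maxHeartbeats 800000 in
/-- Points of algebras of finite type with isomorphic completed local rings have a common étale
neighbourhood, compatible with the isomorphism to any given order. -/
theorem exists_etale_iso_approx {A B C By Cx : Type u} [CommRing A] [IsNoetherianRing A] [CommRing B]
    [Algebra A B] [Algebra.FiniteType A B] [CommRing C] [Algebra A C] [Algebra.FiniteType A C]
    (q : Ideal B) [q.IsPrime] [CommRing By] [IsLocalRing By] [IsNoetherianRing By] [Algebra B By]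
    [IsLocalization.AtPrime By q]
    (P : Ideal C) [P.IsPrime] [CommRing Cx] [IsLocalRing Cx] [IsNoetherianRing Cx] [Algebra C Cx]
    [IsLocalization.AtPrime Cx P]
    (hreg : CAlg.IsRegularHom Cx (AdicCompletion (maximalIdeal Cx) Cx))
    (φ : AdicCompletion (maximalIdeal By) By ≃+* AdicCompletion (maximalIdeal Cx) Cx)
    (hφ : ∀ a, φ (algebraMap By _ (algebraMap B By (algebraMap A B a))) =
      algebraMap Cx _ (algebraMap C Cx (algebraMap A C a))) (N : ℕ) :
    ∃ (E : Type u) (_ : CommRing E) (_ : Algebra C E) (χ : B →+* E) (u : Ideal E),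
      Algebra.Etale C E ∧ χ.Etale ∧ u.IsPrime ∧ u.comap (algebraMap C E) = P ∧ u.comap χ = q ∧
      (∀ a, χ (algebraMap A B a) = algebraMap C E (algebraMap A C a)) ∧
      ∀ (Eu : Type u) [CommRing Eu] [IsLocalRing Eu] [Algebra E Eu] [u.IsPrime] [IsLocalization.AtPrime Eu u]
        (ι : Cx →+* Eu) (ι' : By →+* Eu), (∀ c, ι (algebraMap C Cx c) = algebraMap E Eu (algebraMap C E c)) →
        (∀ b, ι' (algebraMap B By b) = algebraMap E Eu (χ b)) →
        (∀ t, ∃ c, t - ι c ∈ maximalIdeal Eu) ∧ (∀ t, ∃ b, t - ι' b ∈ maximalIdeal Eu) ∧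
        ∀ (b : By) (c : Cx), φ (algebraMap By _ b) - algebraMap Cx _ c ∈ maximalIdeal _ ^ N →
          ι' b - ι c ∈ maximalIdeal Eu ^ N := by
  let φy : By →+* AdicCompletion (maximalIdeal Cx) Cx := φ.toRingHom.comp (algebraMap By _)
  obtain ⟨E, _, _, χ, u, hE, hu, hucomap, huχ, hχA, hloca⟩ :=
    exists_etale_hom_approx P hreg (φy.comp (algebraMap B By)) hφ (N + 1)
  haveI := hu
  haveI := hE
  haveI : IsNoetherianRing C := Algebra.FiniteType.isNoetherianRing A C
  haveI : IsNoetherianRing B := Algebra.FiniteType.isNoetherianRing A B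
  haveI : IsNoetherianRing E := Algebra.FiniteType.isNoetherianRing C E
  haveI : IsLocalHom φ.toRingHom := ⟨fun x hx => (isUnit_map_iff φ x).1 hx⟩
  have hq : u.comap χ = q := by
    rw [huχ, ← Ideal.comap_comap, ← Ideal.comap_comap, maximalIdeal_comap φ.toRingHom,
      maximalIdeal_comap (algebraMap By _)]
    exact IsLocalization.AtPrime.comap_maximalIdeal By q
  -- congruences over any model of the local ring
  have key : ∀ (Eu : Type u) [CommRing Eu] [IsLocalRing Eu] [Algebra E Eu] [IsLocalization.AtPrime Eu u]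
      (ι : Cx →+* Eu) (ι' : By →+* Eu), (∀ c, ι (algebraMap C Cx c) = algebraMap E Eu (algebraMap C E c)) →
      (∀ b, ι' (algebraMap B By b) = algebraMap E Eu (χ b)) →
      (maximalIdeal Cx).map ι ≤ maximalIdeal Eu ∧ (maximalIdeal By).map ι' ≤ maximalIdeal Eu ∧
      (∀ t, ∃ c, t - ι c ∈ maximalIdeal Eu) ∧
      ∀ k ≤ N + 1 + 1, ∀ (b : By) (c : Cx), φ (algebraMap By _ b) - algebraMap Cx _ c ∈ maximalIdeal _ ^ k →
          ι' b - ι c ∈ maximalIdeal Eu ^ k := by
    intro Eu _ _ _ _ ι ι' hι hι'
    have h1 : (maximalIdeal Cx).map ι ≤ maximalIdeal Eu := map_maximalIdeal_le P ι (by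
      rw [show ι.comp (algebraMap C Cx) = (algebraMap E Eu).comp (algebraMap C E) from RingHom.ext hι,
        ← Ideal.comap_comap, ← hucomap]
      exact congrArg _ (IsLocalization.AtPrime.comap_maximalIdeal Eu u))
    obtain ⟨hres, hc⟩ := hloca Eu ι hι
    refine ⟨h1, map_maximalIdeal_le q ι' ?_, hres, fun k hk b c h => ?_⟩
    · rw [show ι'.comp (algebraMap B By) = (algebraMap E Eu).comp χ from RingHom.ext hι',
        ← Ideal.comap_comap, ← hq]
      exact congrArg _ (IsLocalization.AtPrime.comap_maximalIdeal Eu u)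
    · refine sub_mem_pow_of_base q ι ι' h1 φy hk (fun b₀ c₀ h₀ => ?_) b c h
      rw [hι']
      exact hc b₀ c₀ ((evalₐ_eq_mk_iff _ _ c₀).2 h₀)
  -- the map from B is étale near u
  let Eu := Localization.AtPrime u
  let ι : Cx →+* Eu := IsLocalization.lift (M := P.primeCompl) (g := (algebraMap E Eu).comp (algebraMap C E))
    fun s => IsLocalization.map_units Eu
      (⟨algebraMap C E s, fun h => s.2 (hucomap ▸ h : (s : C) ∈ P)⟩ : u.primeCompl)
  let ι' : By →+* Eu := IsLocalization.lift (M := q.primeCompl) (g := (algebraMap E Eu).comp χ)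
    fun s => IsLocalization.map_units Eu (⟨χ s, fun h => s.2 (hq ▸ h : (s : B) ∈ q)⟩ : u.primeCompl)
  have hι : ∀ c, ι (algebraMap C Cx c) = algebraMap E Eu (algebraMap C E c) := fun c => IsLocalization.lift_eq _ c
  have hι' : ∀ b, ι' (algebraMap B By b) = algebraMap E Eu (χ b) := fun b => IsLocalization.lift_eq _ b
  obtain ⟨h1, h2, hres, hc⟩ := key Eu ι ι' hι hι'
  have hflat : ι.Flat ∧ (maximalIdeal Cx).map ι = maximalIdeal Eu := by
    letI := ι.toAlgebra
    haveI : IsScalarTower C Cx Eu := IsScalarTower.of_algebraMap_eq fun c =>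
      (IsScalarTower.algebraMap_apply C E Eu c).trans (hι c).symm
    haveI : Module.Flat E Eu := IsLocalization.flat Eu u.primeCompl
    haveI : Module.Flat C Eu := Module.Flat.trans C E Eu
    haveI : IsLocalHom (algebraMap Cx Eu) := ((IsLocalRing.local_hom_TFAE _).out 0 2).mpr h1
    haveI : Algebra.FormallyUnramified E Eu := .of_isLocalization u.primeCompl
    haveI : Algebra.EssFiniteType E Eu := .of_isLocalization Eu u.primeCompl
    haveI : Algebra.FormallyUnramified C Eu := .comp C E Eu
    haveI : Algebra.EssFiniteType C Eu := .comp C E Eu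
    haveI : Algebra.FormallyUnramified Cx Eu := .of_restrictScalars C Cx Eu
    haveI : Algebra.EssFiniteType Cx Eu := .of_comp C Cx Eu
    exact ⟨RingHom.flat_algebraMap_iff.2 ((Module.flat_iff_of_isLocalization Cx P.primeCompl Eu).2 ‹_›),
      Algebra.FormallyUnramified.map_maximalIdeal (R := Cx) (S := Eu)⟩
  obtain ⟨hf', hm'⟩ := flat_and_map_eq_of_congr ι ι' hflat.1 hflat.2 hres h2 φ (hc 2 (by omega))
  have hres' : ∀ (Eu : Type u) [CommRing Eu] [IsLocalRing Eu] (ι : Cx →+* Eu) (ι' : By →+* Eu),
      (∀ t, ∃ c, t - ι c ∈ maximalIdeal Eu) →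
      (∀ (b : By) (c : Cx), φ (algebraMap By _ b) - algebraMap Cx _ c ∈ maximalIdeal _ ^ 1 →
          ι' b - ι c ∈ maximalIdeal Eu ^ 1) → ∀ t, ∃ b, t - ι' b ∈ maximalIdeal Eu := by
    intro Eu _ _ ι ι' hres h t
    obtain ⟨c, hc⟩ := hres t
    obtain ⟨b, hb⟩ := exists_sub_mem_pow 1 (φ.symm (algebraMap Cx _ c))
    have hb' : φ (algebraMap By _ b) - algebraMap Cx _ c ∈ maximalIdeal _ ^ 1 := by
      rw [pow_one] at hb ⊢
      have := map_mem_nonunits_iff φ.toRingHom (φ.symm (algebraMap Cx _ c) - algebraMap By _ b) |>.2 hb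
      rw [map_sub] at this
      rw [← neg_mem_iff, neg_sub]
      simpa using this
    refine ⟨b, ?_⟩
    have := sub_mem hc (pow_one (maximalIdeal Eu) ▸ h b c hb')
    rwa [sub_sub_sub_cancel_right] at this
  letI : Algebra B E := χ.toAlgebra
  haveI : Algebra.FiniteType B E := by
    letI : Algebra A E := ((algebraMap C E).comp (algebraMap A C)).toAlgebra
    haveI : IsScalarTower A C E := IsScalarTower.of_algebraMap_eq fun _ => rfl
    haveI : IsScalarTower A B E := IsScalarTower.of_algebraMap_eq fun a => (hχA a).symm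
    haveI : Algebra.FiniteType A E := Algebra.FiniteType.trans (S := C) inferInstance inferInstance
    exact .of_restrictScalars_finiteType A B E
  haveI : IsLocalization.AtPrime By (u.under B) := by
    have : u.under B = q := hq
    simp only [this]
    infer_instance
  obtain ⟨g, hg, hgE⟩ := exists_etale_away u ι' hι' hf' hm' (hres' Eu ι ι' hres (hc 1 (by omega)))
  let E' := Localization.Away g
  let u' := u.map (algebraMap E E')
  have hdisj : Disjoint (Submonoid.powers g : Set E) u := by
    rw [Set.disjoint_left]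
    rintro _ ⟨n, rfl⟩ hn
    exact hg (hu.mem_of_pow_mem n hn)
  haveI hu' : u'.IsPrime := IsLocalization.isPrime_of_isPrime_disjoint (Submonoid.powers g) E' u hu hdisj
  have hcm : u'.comap (algebraMap E E') = u :=
    IsLocalization.comap_map_of_isPrime_disjoint (Submonoid.powers g) E' ‹_› hdisj
  haveI : Algebra.Etale E E' := .of_isLocalizationAway g
  refine ⟨E', inferInstance, inferInstance, (algebraMap E E').comp χ, u', Algebra.Etale.comp C E E', ?_, hu', ?_,
    ?_, fun a => ?_, ?_⟩
  · have : (algebraMap E E').comp χ = algebraMap B E' := RingHom.ext fun b =>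
      (IsScalarTower.algebraMap_apply B E E' b).symm
    rw [this]
    exact RingHom.etale_algebraMap.2 hgE
  · rw [IsScalarTower.algebraMap_eq C E E', ← Ideal.comap_comap, hcm, hucomap]
  · rw [← Ideal.comap_comap, hcm, hq]
  · rw [RingHom.comp_apply, hχA, IsScalarTower.algebraMap_apply C E E']
  intro F _ _ _ _ _ j j' hj hj'
  letI : Algebra E F := ((algebraMap E' F).comp (algebraMap E E')).toAlgebra
  haveI : IsScalarTower E E' F := IsScalarTower.of_algebraMap_eq fun _ => rfl
  haveI h3 := IsLocalization.isLocalization_isLocalization_atPrime_isLocalization (Submonoid.powers g) F u'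
  haveI : IsLocalization.AtPrime F u := by
    simp only [hcm] at h3
    exact h3
  obtain ⟨-, -, k1, k2⟩ := key F j j' (fun c => by rw [hj, IsScalarTower.algebraMap_apply C E E']; rfl) hj'
  exact ⟨k1, hres' F j j' k1 (k2 1 (by omega)), k2 N (by omega)⟩

end Smoothing.Approx
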