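import Groth.Agent.Lib.Smoothing.Approx.Etale

/-!
# Approximation in étale neighbourhoods of a prime
-/

set_option autoImplicit false
set_option backward.isDefEq.respectTransparency false

universe u

open scoped TensorProduct
open IsLocalRing

namespace Smoothing.Approx

/-- A point of a smooth algebra in an algebra of fractions factors through an étale algebra. -/
theorem exists_etale_of_smooth_frac {R : Type u} [CommRing R] (Q : Type u) [CommRing Q] [Algebra R Q]
    (S : Submonoid R) (hS : ∀ s ∈ S, IsUnit (algebraMap R Q s))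
    (hQ : ∀ q : Q, ∃ s ∈ S, ∃ r, q * algebraMap R Q s = algebraMap R Q r)
    (B : Type u) [CommRing B] [Algebra R B] [Algebra.Smooth R B] (σ : B →ₐ[R] Q) :
    ∃ (E : Type u) (_ : CommRing E) (_ : Algebra R E),
      Algebra.Etale R E ∧ ∃ (χ : B →ₐ[R] E) (τ : E →ₐ[R] Q), τ.comp χ = σ := by
  classical
  obtain ⟨C, _, _, _, _, -, ⟨rC⟩, hC⟩ := exists_smooth_retract_isStandardSmooth (R := R) (A := B)
  obtain ⟨n, g, hgC, hg⟩ :=
    RingHom.IsStandardSmooth.exists_etale_mvPolynomial (f := algebraMap R C)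
      (RingHom.isStandardSmooth_algebraMap.2 hC)
  let σ' : C →ₐ[R] Q := σ.comp (rC.restrictScalars R)
  choose s hs r hr using fun i => hQ (σ' (g (MvPolynomial.X i)))
  let d := ∏ i, s i
  have hd : IsUnit (algebraMap R Q d) := hS _ (S.prod_mem fun i _ => hs i)
  let A := Localization.Away d
  let π : A →ₐ[R] Q := IsLocalization.Away.liftAlgHom (f := Algebra.ofId R Q) d hd
  have hπ : ∀ x, π (algebraMap R A x) = algebraMap R Q x := π.commutes
  have hsA : ∀ i, IsUnit (algebraMap R A (s i)) := fun i =>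
    isUnit_of_dvd_unit (map_dvd (algebraMap R A) (Finset.dvd_prod_of_mem s (Finset.mem_univ i)))
      (IsLocalization.Away.algebraMap_isUnit d)
  let a : Fin n → A := fun i => algebraMap R A (r i) * (hsA i).unit⁻¹
  have ha : ∀ i, π (a i) = σ' (g (MvPolynomial.X i)) := fun i => by
    rw [← (hS _ (hs i)).mul_left_inj, hr, ← hπ (s i), ← map_mul]
    show π (algebraMap R A (r i) * _ * algebraMap R A (s i)) = _
    rw [mul_assoc, IsUnit.val_inv_mul (hsA i), mul_one, hπ]
  letI := g.toAlgebra
  haveI : Algebra.Etale (MvPolynomial (Fin n) R) C := RingHom.etale_algebraMap.1 hg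
  haveI : IsScalarTower R (MvPolynomial (Fin n) R) C :=
    IsScalarTower.of_algebraMap_eq fun x => (RingHom.congr_fun hgC x).symm
  letI : Algebra (MvPolynomial (Fin n) R) A := (MvPolynomial.aeval a : _ →ₐ[R] A).toRingHom.toAlgebra
  haveI : IsScalarTower R (MvPolynomial (Fin n) R) A :=
    IsScalarTower.of_algebraMap_eq fun x => ((MvPolynomial.aeval a : _ →ₐ[R] A).commutes x).symm
  letI : Algebra (MvPolynomial (Fin n) R) Q :=
    (π.toRingHom.comp (algebraMap (MvPolynomial (Fin n) R) A)).toAlgebra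
  letI : Algebra A Q := π.toRingHom.toAlgebra
  haveI : IsScalarTower (MvPolynomial (Fin n) R) A Q := IsScalarTower.of_algebraMap_eq fun _ => rfl
  haveI : IsScalarTower R A Q := IsScalarTower.of_algebraMap_eq fun x => (hπ x).symm
  haveI : IsScalarTower R (MvPolynomial (Fin n) R) Q :=
    IsScalarTower.of_algebraMap_eq fun x =>
      ((congrArg π ((MvPolynomial.aeval a : _ →ₐ[R] A).commutes x)).trans (hπ x)).symm
  have hcomp : σ'.comp (IsScalarTower.toAlgHom R (MvPolynomial (Fin n) R) C) =
      IsScalarTower.toAlgHom R (MvPolynomial (Fin n) R) Q :=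
    MvPolynomial.algHom_ext fun i => by
      rw [AlgHom.comp_apply]
      change σ' (g (MvPolynomial.X i)) = π (MvPolynomial.aeval a (MvPolynomial.X i))
      rw [MvPolynomial.aeval_X, ha]
  let σP : C →ₐ[MvPolynomial (Fin n) R] Q :=
    { σ'.toRingHom with commutes' := fun p => AlgHom.congr_fun hcomp p }
  let τ : A ⊗[MvPolynomial (Fin n) R] C →ₐ[A] Q :=
    Algebra.TensorProduct.lift (Algebra.ofId A Q) σP fun _ _ => Commute.all _ _
  haveI : Algebra.Etale R A := .of_isLocalizationAway d
  haveI : Algebra.Etale R (A ⊗[MvPolynomial (Fin n) R] C) := Algebra.Etale.comp R A _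
  refine ⟨A ⊗[MvPolynomial (Fin n) R] C, inferInstance, inferInstance, inferInstance,
    ((Algebra.TensorProduct.includeRight : C →ₐ[MvPolynomial (Fin n) R] _).restrictScalars R).comp
      (IsScalarTower.toAlgHom R B C), τ.restrictScalars R, AlgHom.ext fun b => ?_⟩
  change τ ((1 : A) ⊗ₜ[MvPolynomial (Fin n) R] algebraMap B C b) = σ b
  rw [Algebra.TensorProduct.lift_tmul, map_one, one_mul]
  change σ (rC (algebraMap B C b)) = σ b
  rw [rC.commutes]
  rfl

/-- Approximation of a map to the completion at a prime, in an étale neighbourhood of the prime. -/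
theorem exists_etale_approx_prime {R : Type u} [CommRing R] [IsNoetherianRing R] (p : Ideal R) [p.IsPrime]
    (hreg : CAlg.IsRegularHom (Localization.AtPrime p)
      (AdicCompletion (maximalIdeal (Localization.AtPrime p)) (Localization.AtPrime p)))
    (C : Type u) [CommRing C] [Algebra R C] [Algebra.FinitePresentation R C]
    (φ : C →ₐ[R] AdicCompletion (maximalIdeal (Localization.AtPrime p)) (Localization.AtPrime p)) (N : ℕ) :
    ∃ (E : Type u) (_ : CommRing E) (_ : Algebra R E), Algebra.Etale R E ∧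
      ∃ (χ : C →ₐ[R] E)
        (ψ : E →ₐ[R] AdicCompletion (maximalIdeal (Localization.AtPrime p)) (Localization.AtPrime p)),
        ∀ c, AdicCompletion.evalₐ (maximalIdeal (Localization.AtPrime p)) (N + 1) (ψ (χ c)) =
          AdicCompletion.evalₐ (maximalIdeal (Localization.AtPrime p)) (N + 1) (φ c) := by
  let Rp := Localization.AtPrime p
  let Λ := AdicCompletion (maximalIdeal Rp) Rp
  haveI : IsNoetherianRing Rp := IsLocalization.isNoetherianRing p.primeCompl _ inferInstance
  have hreg' : CAlg.IsRegularHom R Λ :=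
    (GrothLib.GeomReg.isRegularHom_localization_left (R := R) (R' := Rp) p.primeCompl).mp hreg
  obtain ⟨B, _, _, _, g, h, hgh⟩ := Popescu.indSmooth_of_isRegularHom hreg' C inferInstance φ
  let ev : Λ →ₐ[R] Rp ⧸ maximalIdeal Rp ^ (N + 1) :=
    (AdicCompletion.evalₐ (maximalIdeal Rp) (N + 1)).restrictScalars R
  obtain ⟨E, _, _, hE, χ, τ, hτ⟩ := exists_etale_of_smooth_frac (Rp ⧸ maximalIdeal Rp ^ (N + 1)) p.primeCompl
    (fun s hs => by
      rw [IsScalarTower.algebraMap_apply R Rp]
      exact (IsLocalization.map_units Rp (⟨s, hs⟩ : p.primeCompl)).map _)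
    (fun q => by
      obtain ⟨x, rfl⟩ := Ideal.Quotient.mk_surjective q
      obtain ⟨⟨r, s⟩, hrs⟩ := IsLocalization.surj p.primeCompl x
      exact ⟨s, s.2, r, congrArg (Ideal.Quotient.mk _) hrs⟩) B (ev.comp h)
  haveI := hE
  haveI : IsAdicComplete ((maximalIdeal Rp).map (algebraMap Rp Λ)) Λ :=
    AdicCompletion.isAdicComplete_self _ (IsNoetherian.noetherian _)
  haveI : HenselianRing Λ (((maximalIdeal Rp).map (algebraMap Rp Λ)) ^ (N + 1)) :=
    GrothLib.Hensel.henselianRing_of_le (Ideal.pow_le_self N.succ_ne_zero)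
  let e : (Λ ⧸ ((maximalIdeal Rp).map (algebraMap Rp Λ)) ^ (N + 1)) ≃ₐ[Rp] Rp ⧸ maximalIdeal Rp ^ (N + 1) :=
    (Ideal.quotientEquivAlgOfEq Rp
      (GrothLib.AdicFS.ker_evalₐ (I := maximalIdeal Rp) (IsNoetherian.noetherian _) (N + 1)).symm).trans
      (Ideal.quotientKerAlgEquivOfSurjective (AdicCompletion.surjective_evalₐ _ _))
  obtain ⟨ψ, hψ⟩ := GrothLib.Hensel.exists_algHom_lift (R := R)
    (I := ((maximalIdeal Rp).map (algebraMap Rp Λ)) ^ (N + 1))
    ((e.restrictScalars R).symm.toAlgHom.comp τ)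
  refine ⟨E, inferInstance, inferInstance, hE, χ.comp g, ψ, fun c => ?_⟩
  have h1 := congrArg (e.restrictScalars R) (AlgHom.congr_fun hψ (χ (g c)))
  rw [AlgHom.comp_apply ((e.restrictScalars R).symm.toAlgHom)] at h1
  refine (h1.trans ((e.restrictScalars R).apply_symm_apply _)).trans ?_
  refine (AlgHom.congr_fun hτ (g c)).trans ?_
  exact congrArg ev (AlgHom.congr_fun hgh c)

/-- Étale solutions of polynomial systems near a prime. -/
theorem exists_etale_solution_prime {R : Type u} [CommRing R] [IsNoetherianRing R] (p : Ideal R) [p.IsPrime]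
    (hreg : CAlg.IsRegularHom (Localization.AtPrime p)
      (AdicCompletion (maximalIdeal (Localization.AtPrime p)) (Localization.AtPrime p)))
    {n m : ℕ} (F : Fin m → MvPolynomial (Fin n) R)
    (a : Fin n → AdicCompletion (maximalIdeal (Localization.AtPrime p)) (Localization.AtPrime p))
    (ha : ∀ j, MvPolynomial.aeval a (F j) = 0) (N : ℕ) :
    ∃ (R' : Type u) (_ : CommRing R') (_ : Algebra R R'), Algebra.Etale R R' ∧
      ∃ (ψ : R' →+* AdicCompletion (maximalIdeal (Localization.AtPrime p)) (Localization.AtPrime p))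
        (p' : Ideal R'), p'.IsPrime ∧
        (∀ r : R, ψ (algebraMap R R' r) =
          algebraMap (Localization.AtPrime p) _ (algebraMap R (Localization.AtPrime p) r)) ∧
        p'.comap (algebraMap R R') = p ∧
        (∀ x : R', ∃ r s : R, s ∉ p ∧ algebraMap R R' s * x - algebraMap R R' r ∈ p') ∧
        (∀ x ∈ p', ψ x ∈ (maximalIdeal (Localization.AtPrime p)).map
          (algebraMap (Localization.AtPrime p)
            (AdicCompletion (maximalIdeal (Localization.AtPrime p)) (Localization.AtPrime p)))) ∧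
        ∃ b : Fin n → R', (∀ j, MvPolynomial.aeval b (F j) = 0) ∧
          ∀ i, a i - ψ (b i) ∈ (maximalIdeal (Localization.AtPrime p) ^ N).map
            (algebraMap (Localization.AtPrime p)
              (AdicCompletion (maximalIdeal (Localization.AtPrime p)) (Localization.AtPrime p))) := by
  classical
  let Rp := Localization.AtPrime p
  let Λ := AdicCompletion (maximalIdeal Rp) Rp
  haveI : IsNoetherianRing Rp := IsLocalization.isNoetherianRing p.primeCompl _ inferInstance
  haveI : Algebra.FinitePresentation R (MvPolynomial (Fin n) R ⧸ Ideal.span (Set.range F)) :=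
    Algebra.FinitePresentation.quotient (Submodule.fg_span (Set.finite_range F))
  have hle : ∀ x ∈ Ideal.span (Set.range F), MvPolynomial.aeval a x = 0 := by
    intro x hx
    refine (Ideal.span_le (I := RingHom.ker (MvPolynomial.aeval a : MvPolynomial (Fin n) R →ₐ[R] _))).2 ?_ hx
    rintro - ⟨j, rfl⟩
    exact ha j
  obtain ⟨E, _, _, hE, χ, ψ, hψ⟩ := exists_etale_approx_prime p hreg
    (MvPolynomial (Fin n) R ⧸ Ideal.span (Set.range F)) (Ideal.Quotient.liftₐ _ (MvPolynomial.aeval a) hle) N
  have hmax : maximalIdeal Λ = (maximalIdeal Rp).map (algebraMap Rp Λ) := AdicCompletion.maximalIdeal_eq_map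
  have hcomm : ∀ r : R, ψ (algebraMap R E r) = algebraMap Rp Λ (algebraMap R Rp r) := fun r =>
    (ψ.commutes r).trans (IsScalarTower.algebraMap_apply R Rp Λ r)
  refine ⟨E, inferInstance, inferInstance, hE, ψ.toRingHom, (maximalIdeal Λ).comap ψ.toRingHom,
    inferInstance, hcomm, ?_, fun x => ?_, fun x hx => ?_,
    fun i => χ (Ideal.Quotient.mk _ (MvPolynomial.X i)), fun j => ?_, fun i => ?_⟩
  · rw [Ideal.comap_comap, show ψ.toRingHom.comp (algebraMap R E) =
      (algebraMap Rp Λ).comp (algebraMap R Rp) from RingHom.ext hcomm, ← Ideal.comap_comap,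
      maximalIdeal_comap (algebraMap Rp Λ)]
    exact IsLocalization.AtPrime.comap_maximalIdeal Rp p
  · obtain ⟨y, hy⟩ := (AdicCompletion.residueField_map_bijective Rp).2 (residue Λ (ψ x))
    obtain ⟨r₀, rfl⟩ := residue_surjective y
    obtain ⟨⟨r, s⟩, hrs⟩ := IsLocalization.surj p.primeCompl r₀
    refine ⟨r, s, s.2, ?_⟩
    rw [Ideal.mem_comap]
    show ψ (algebraMap R E s * x - algebraMap R E r) ∈ maximalIdeal Λ
    rw [map_sub, map_mul, hcomm, hcomm, ← hrs, mul_comm r₀, map_mul, ← mul_sub]
    refine Ideal.mul_mem_left _ _ ?_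
    rw [← residue_eq_zero_iff, map_sub, ← hy, ResidueField.map_residue, sub_self]
  · rw [← hmax]
    exact hx
  · have hb : MvPolynomial.aeval (fun i => χ (Ideal.Quotient.mk _ (MvPolynomial.X i))) =
        χ.comp (Ideal.Quotient.mkₐ R (Ideal.span (Set.range F))) :=
      MvPolynomial.algHom_ext fun i => by simp
    rw [hb, AlgHom.comp_apply, Ideal.Quotient.mkₐ_eq_mk,
      Ideal.Quotient.eq_zero_iff_mem.2 (Ideal.subset_span (Set.mem_range_self j)), map_zero]
  · have h1 : AdicCompletion.evalₐ (maximalIdeal Rp) (N + 1)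
        (ψ (χ (Ideal.Quotient.mk _ (MvPolynomial.X i)))) =
        AdicCompletion.evalₐ (maximalIdeal Rp) (N + 1) (a i) := by
      rw [hψ]
      congr 1
      exact MvPolynomial.aeval_X a i
    refine Ideal.map_mono (Ideal.pow_le_pow_right N.le_succ) ?_
    rw [Ideal.map_pow, ← GrothLib.AdicFS.ker_evalₐ (I := maximalIdeal Rp) (IsNoetherian.noetherian _),
      RingHom.mem_ker, map_sub, sub_eq_zero]
    exact h1.symm

end Smoothing.Approx
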