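import Groth.Agent.Lib.Smoothing.Approx.EtaleLoc
import Groth.Agent.Lib.GRingFT.Main
import Groth.Agent.Lib.Excellent.Localization

/-!
# Approximation of maps to the completion of a local ring by maps of étale neighbourhoods
-/

set_option autoImplicit false
set_option backward.isDefEq.respectTransparency false

universe u

open IsLocalRing TensorProduct

namespace Smoothing.Approx

/-- Approximation in an étale neighbourhood, for any model of the local ring. -/
theorem exists_etale_approx_local {R Rp : Type u} [CommRing R] [IsNoetherianRing R] (p : Ideal R) [p.IsPrime]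
    [CommRing Rp] [IsLocalRing Rp] [Algebra R Rp] [IsLocalization.AtPrime Rp p]
    (hreg : CAlg.IsRegularHom Rp (AdicCompletion (maximalIdeal Rp) Rp))
    (C : Type u) [CommRing C] [Algebra R C] [Algebra.FinitePresentation R C]
    (φ : C →ₐ[R] AdicCompletion (maximalIdeal Rp) Rp) (N : ℕ) :
    ∃ (E : Type u) (_ : CommRing E) (_ : Algebra R E), Algebra.Etale R E ∧
      ∃ (χ : C →ₐ[R] E) (ψ : E →ₐ[R] AdicCompletion (maximalIdeal Rp) Rp),
        ∀ c, AdicCompletion.evalₐ (maximalIdeal Rp) (N + 1) (ψ (χ c)) =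
          AdicCompletion.evalₐ (maximalIdeal Rp) (N + 1) (φ c) := by
  let Λ := AdicCompletion (maximalIdeal Rp) Rp
  haveI : IsNoetherianRing Rp := IsLocalization.isNoetherianRing p.primeCompl _ inferInstance
  have hreg' : CAlg.IsRegularHom R Λ :=
    (GrothLib.GeomReg.isRegularHom_localization_left (R := R) (R' := Rp) p.primeCompl).mp hreg
  obtain ⟨B, _, _, _, g, h, hgh⟩ := Popescu.indSmooth_of_isRegularHom hreg' C inferInstance φ
  let ev : Λ →ₐ[R] Rp ⧸ maximalIdeal Rp ^ (N + 1) :=
    (AdicCompletion.evalₐ (maximalIdeal Rp) (N + 1)).restrictScalars R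
  obtain ⟨E, _, _, hE, χ, τ, hτ⟩ := exists_etale_of_smooth_frac (Rp ⧸ maximalIdeal Rp ^ (N + 1)) p.primeCompl
    (fun s hs => by
      rw [IsScalarTower.algebraMap_apply R Rp]
      exact (IsLocalization.map_units Rp (⟨s, hs⟩ : p.primeCompl)).map _)
    (fun q => by
      obtain ⟨x, rfl⟩ := Ideal.Quotient.mk_surjective q
      obtain ⟨⟨r, s⟩, hrs⟩ := IsLocalization.surj p.primeCompl x
      exact ⟨s, s.2, r, congrArg (Ideal.Quotient.mk _) hrs⟩) B (ev.comp h)
  haveI := hE
  haveI : IsAdicComplete ((maximalIdeal Rp).map (algebraMap Rp Λ)) Λ :=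
    AdicCompletion.isAdicComplete_self _ (IsNoetherian.noetherian _)
  haveI : HenselianRing Λ (((maximalIdeal Rp).map (algebraMap Rp Λ)) ^ (N + 1)) :=
    GrothLib.Hensel.henselianRing_of_le (Ideal.pow_le_self N.succ_ne_zero)
  let e : (Λ ⧸ ((maximalIdeal Rp).map (algebraMap Rp Λ)) ^ (N + 1)) ≃ₐ[Rp] Rp ⧸ maximalIdeal Rp ^ (N + 1) :=
    (Ideal.quotientEquivAlgOfEq Rp
      (GrothLib.AdicFS.ker_evalₐ (I := maximalIdeal Rp) (IsNoetherian.noetherian _) (N + 1)).symm).trans
      (Ideal.quotientKerAlgEquivOfSurjective (AdicCompletion.surjective_evalₐ _ _))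
  obtain ⟨ψ, hψ⟩ := GrothLib.Hensel.exists_algHom_lift (R := R)
    (I := ((maximalIdeal Rp).map (algebraMap Rp Λ)) ^ (N + 1))
    ((e.restrictScalars R).symm.toAlgHom.comp τ)
  refine ⟨E, inferInstance, inferInstance, hE, χ.comp g, ψ, fun c => ?_⟩
  have h1 := congrArg (e.restrictScalars R) (AlgHom.congr_fun hψ (χ (g c)))
  rw [AlgHom.comp_apply ((e.restrictScalars R).symm.toAlgHom)] at h1
  refine (h1.trans ((e.restrictScalars R).apply_symm_apply _)).trans ?_
  refine (AlgHom.congr_fun hτ (g c)).trans ?_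
  exact congrArg ev (AlgHom.congr_fun hgh c)

/-- Regularity of the completion map of a local ring of a localisation of a G-ring. -/
theorem isRegularHom_completion_of_localization {C D Cx : Type u} [CommRing C] [CommRing D] [Algebra C D]
    (M : Submonoid C) [IsLocalization M D] (hD : CAlg.IsGRing D) (P : Ideal C) [P.IsPrime]
    (hMP : Disjoint (M : Set C) P) [CommRing Cx] [IsLocalRing Cx] [IsNoetherianRing Cx] [Algebra C Cx]
    [IsLocalization.AtPrime Cx P] : CAlg.IsRegularHom Cx (AdicCompletion (maximalIdeal Cx) Cx) := by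
  haveI := hD.1
  let q := P.map (algebraMap C D)
  haveI : q.IsPrime := IsLocalization.isPrime_of_isPrime_disjoint M D P ‹_› hMP
  have hq : q.comap (algebraMap C D) = P := IsLocalization.comap_map_of_isPrime_disjoint M D ‹_› hMP
  haveI : IsNoetherianRing (Localization.AtPrime q) := IsLocalization.isNoetherianRing q.primeCompl _ inferInstance
  haveI h1 := IsLocalization.isLocalization_isLocalization_atPrime_isLocalization M (Localization.AtPrime q) q
  haveI : IsLocalization.AtPrime (Localization.AtPrime q) P := by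
    simp only [hq] at h1
    exact h1
  exact GrothLib.Excellent.isRegularHom_completion_congr
    (IsLocalization.algEquiv P.primeCompl (Localization.AtPrime q) Cx).toRingEquiv (hD.2 q)

/-- Local rings of algebras of finite type over a ring with a G-ring as local ring are G-rings at that
level: the completion maps are regular. -/
theorem isRegularHom_completion_of_finiteType {A C As Cx : Type u} [CommRing A] [CommRing C] [Algebra A C]
    [Algebra.FiniteType A C] (p : Ideal A) [p.IsPrime] [CommRing As] [Algebra A As] [IsLocalization.AtPrime As p]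
    (hAs : CAlg.IsGRing As) (P : Ideal C) [P.IsPrime] (hP : P.comap (algebraMap A C) = p)
    [CommRing Cx] [IsLocalRing Cx] [IsNoetherianRing Cx] [Algebra C Cx] [IsLocalization.AtPrime Cx P] :
    CAlg.IsRegularHom Cx (AdicCompletion (maximalIdeal Cx) Cx) := by
  letI : Algebra As (C ⊗[A] As) := Algebra.TensorProduct.rightAlgebra
  have hD : CAlg.IsGRing (C ⊗[A] As) :=
    GrothLib.GRingFT.isGRing_congr (Algebra.TensorProduct.comm A As C).toRingEquiv
      (GrothLib.GRingFT.isGRing_of_finiteType hAs (As ⊗[A] C))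
  refine isRegularHom_completion_of_localization (Algebra.algebraMapSubmonoid C p.primeCompl) hD P ?_
  rw [Set.disjoint_left]
  rintro _ ⟨s, hs, rfl⟩ hsP
  exact hs (hP ▸ hsP : s ∈ p)

set_option maxHeartbeats 800000 in
/-- Approximation of an algebra map to a completion by a map to an étale neighbourhood. -/
theorem exists_etale_hom_approx {A B C Cx : Type u} [CommRing A] [IsNoetherianRing A] [CommRing B]
    [Algebra A B] [Algebra.FiniteType A B] [CommRing C] [Algebra A C] [Algebra.FiniteType A C]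
    (P : Ideal C) [P.IsPrime] [CommRing Cx] [IsLocalRing Cx] [IsNoetherianRing Cx] [Algebra C Cx]
    [IsLocalization.AtPrime Cx P]
    (hreg : CAlg.IsRegularHom Cx (AdicCompletion (maximalIdeal Cx) Cx))
    (φ : B →+* AdicCompletion (maximalIdeal Cx) Cx)
    (hφ : ∀ a, φ (algebraMap A B a) = algebraMap Cx _ (algebraMap C Cx (algebraMap A C a))) (N : ℕ) :
    ∃ (E : Type u) (_ : CommRing E) (_ : Algebra C E) (χ : B →+* E) (u : Ideal E),
      Algebra.Etale C E ∧ u.IsPrime ∧ u.comap (algebraMap C E) = P ∧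
      u.comap χ = (maximalIdeal (AdicCompletion (maximalIdeal Cx) Cx)).comap φ ∧
      (∀ a, χ (algebraMap A B a) = algebraMap C E (algebraMap A C a)) ∧
      ∀ (Eu : Type u) [CommRing Eu] [IsLocalRing Eu] [Algebra E Eu] [u.IsPrime] [IsLocalization.AtPrime Eu u]
        (ι : Cx →+* Eu), (∀ c, ι (algebraMap C Cx c) = algebraMap E Eu (algebraMap C E c)) →
        (∀ t, ∃ c, t - ι c ∈ maximalIdeal Eu) ∧
        ∀ (b : B) (c : Cx), AdicCompletion.evalₐ (maximalIdeal Cx) (N + 1) (φ b) = Ideal.Quotient.mk _ c →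
          algebraMap E Eu (χ b) - ι c ∈ maximalIdeal Eu ^ (N + 1) := by
  let Λ := AdicCompletion (maximalIdeal Cx) Cx
  haveI : IsNoetherianRing C := Algebra.FiniteType.isNoetherianRing A C
  haveI : Algebra.FinitePresentation A B := Algebra.FinitePresentation.of_finiteType.1 inferInstance
  letI : Algebra A Λ := ((algebraMap C Λ).comp (algebraMap A C)).toAlgebra
  haveI : IsScalarTower A C Λ := IsScalarTower.of_algebraMap_eq fun _ => rfl
  let φA : B →ₐ[A] Λ := { φ with commutes' := fun a => (hφ a).trans (IsScalarTower.algebraMap_apply C Cx Λ _).symm }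
  let Φ : C ⊗[A] B →ₐ[C] Λ := Algebra.TensorProduct.lift (Algebra.ofId C Λ) φA fun _ _ => Commute.all _ _
  obtain ⟨E, _, _, hE, χ, ψ, hψ⟩ := exists_etale_approx_local P hreg (C ⊗[A] B) Φ N
  haveI := hE
  let χB : B →+* E := χ.toRingHom.comp (Algebra.TensorProduct.includeRight : B →ₐ[A] C ⊗[A] B).toRingHom
  let u := (maximalIdeal Λ).comap ψ.toRingHom
  have hmax : maximalIdeal Λ = (maximalIdeal Cx).map (algebraMap Cx Λ) := AdicCompletion.maximalIdeal_eq_map
  have hker : ∀ k, RingHom.ker (AdicCompletion.evalₐ (maximalIdeal Cx) k).toRingHom = maximalIdeal Λ ^ k :=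
    fun k => by rw [hmax]; exact GrothLib.AdicFS.ker_evalₐ (IsNoetherian.noetherian _) k
  have hcomm : ∀ c : C, ψ (algebraMap C E c) = algebraMap Cx Λ (algebraMap C Cx c) := fun c =>
    (ψ.commutes c).trans (IsScalarTower.algebraMap_apply C Cx Λ c)
  have hval : ∀ b, AdicCompletion.evalₐ (maximalIdeal Cx) (N + 1) (ψ (χB b)) =
      AdicCompletion.evalₐ (maximalIdeal Cx) (N + 1) (φ b) := fun b => by
    refine (hψ _).trans ?_
    congr 1
    show algebraMap C Λ 1 * φ b = _
    rw [map_one, one_mul]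
  have hmem : ∀ b, ψ (χB b) - φ b ∈ maximalIdeal Λ ^ (N + 1) := fun b => by
    rw [← hker, RingHom.mem_ker]
    show AdicCompletion.evalₐ _ _ (_ - _) = 0
    rw [map_sub, hval, sub_self]
  refine ⟨E, inferInstance, inferInstance, χB, u, hE, inferInstance, ?_, ?_, fun a => ?_, ?_⟩
  · rw [Ideal.comap_comap, show ψ.toRingHom.comp (algebraMap C E) =
      (algebraMap Cx Λ).comp (algebraMap C Cx) from RingHom.ext hcomm, ← Ideal.comap_comap,
      maximalIdeal_comap (algebraMap Cx Λ)]
    exact IsLocalization.AtPrime.comap_maximalIdeal Cx P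
  · ext b
    show ψ (χB b) ∈ maximalIdeal Λ ↔ φ b ∈ maximalIdeal Λ
    exact (Submodule.sub_mem_iff_left _ (Ideal.pow_le_self N.succ_ne_zero (hmem b))).symm.trans
      (by rw [sub_sub_cancel])
  · show χ ((1 : C) ⊗ₜ[A] algebraMap A B a) = _
    rw [← χ.commutes, Algebra.TensorProduct.algebraMap_apply, Algebra.algebraMap_self, RingHom.id_apply,
      Algebra.algebraMap_eq_smul_one, Algebra.algebraMap_eq_smul_one, smul_tmul]
  intro Eu _ _ _ _ _ ι hι
  haveI : IsNoetherianRing E := Algebra.FiniteType.isNoetherianRing C E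
  let ψu : Eu →+* Λ := IsLocalization.lift (M := u.primeCompl) (g := ψ.toRingHom) fun s =>
    IsLocalRing.notMem_maximalIdeal.1 s.2
  have hψu : ∀ x, ψu (algebraMap E Eu x) = ψ x := fun x => IsLocalization.lift_eq _ x
  have hψι : ψu.comp ι = algebraMap Cx Λ :=
    IsLocalization.ringHom_ext P.primeCompl (RingHom.ext fun c => by
      show ψu (ι (algebraMap C Cx c)) = algebraMap Cx Λ (algebraMap C Cx c)
      rw [hι, hψu, hcomm])
  have hlocal : ∀ t, ψu t ∈ maximalIdeal Λ → t ∈ maximalIdeal Eu := fun t ht =>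
    (mem_maximalIdeal _).2 fun hu => ht (hu.map ψu)
  have h1 : ∀ t, ∃ c, t - ι c ∈ maximalIdeal Eu := fun t => by
    obtain ⟨y, hy⟩ := (AdicCompletion.residueField_map_bijective Cx).2 (residue Λ (ψu t))
    obtain ⟨c, rfl⟩ := residue_surjective y
    refine ⟨c, hlocal _ ?_⟩
    rw [map_sub, show ψu (ι c) = algebraMap Cx Λ c from RingHom.congr_fun hψι c, ← residue_eq_zero_iff, map_sub,
      ← hy, ResidueField.map_residue, sub_self]
  refine ⟨h1, fun b c hbc => ?_⟩
  -- the maximal ideal of the étale neighbourhood comes from below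
  have hgen : maximalIdeal Eu = (maximalIdeal Cx).map ι := by
    letI : Algebra C Eu := ((algebraMap E Eu).comp (algebraMap C E)).toAlgebra
    haveI : IsScalarTower C E Eu := IsScalarTower.of_algebraMap_eq fun _ => rfl
    letI : Algebra Cx Eu := ι.toAlgebra
    haveI : IsScalarTower C Cx Eu := IsScalarTower.of_algebraMap_eq fun c => (hι c).symm
    haveI : IsLocalHom (algebraMap Cx Eu) := ⟨fun x hx => by
      have h2 : IsUnit (algebraMap Cx Λ x) := (RingHom.congr_fun hψι x) ▸ hx.map ψu
      exact (isUnit_map_iff (algebraMap Cx Λ) x).1 h2⟩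
    haveI : Algebra.FormallyUnramified E Eu := .of_isLocalization u.primeCompl
    haveI : Algebra.EssFiniteType E Eu := .of_isLocalization Eu u.primeCompl
    haveI : Algebra.FormallyUnramified C Eu := .comp C E Eu
    haveI : Algebra.EssFiniteType C Eu := .comp C E Eu
    haveI : Algebra.FormallyUnramified Cx Eu := .of_restrictScalars C Cx Eu
    haveI : Algebra.EssFiniteType Cx Eu := .of_comp C Cx Eu
    exact (Algebra.FormallyUnramified.map_maximalIdeal (R := Cx) (S := Eu)).symm
  -- congruences up to any order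
  have h2 : ∀ k t, ∃ c, t - ι c ∈ maximalIdeal Eu ^ k := by
    intro k
    induction k with
    | zero => exact fun t => ⟨0, by simp⟩
    | succ k ih =>
      intro t
      obtain ⟨c, hc⟩ := ih t
      have h3 : ∀ x ∈ maximalIdeal Eu ^ k, ∃ c, x - ι c ∈ maximalIdeal Eu ^ (k + 1) := by
        intro x hx
        rw [hgen, ← Ideal.map_pow] at hx
        induction hx using Submodule.span_induction with
        | mem x hx => obtain ⟨c, -, rfl⟩ := hx; exact ⟨c, by simp⟩
        | zero => exact ⟨0, by simp⟩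
        | add x y _ _ hx hy =>
          obtain ⟨c, hc⟩ := hx
          obtain ⟨d, hd⟩ := hy
          refine ⟨c + d, ?_⟩
          rw [map_add, add_sub_add_comm]
          exact add_mem hc hd
        | smul r x hxk hx =>
          obtain ⟨c, hc⟩ := hx
          obtain ⟨s, hs⟩ := h1 r
          have hxk' : x ∈ maximalIdeal Eu ^ k := by rw [hgen, ← Ideal.map_pow]; exact hxk
          refine ⟨s * c, ?_⟩
          have e : r • x - ι (s * c) = (r - ι s) * x + ι s * (x - ι c) := by
            rw [smul_eq_mul, map_mul]; ring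
          rw [e, pow_succ' (maximalIdeal Eu) k]
          exact add_mem (Ideal.mul_mem_mul hs hxk') (Ideal.mul_mem_left _ _ (pow_succ' (maximalIdeal Eu) k ▸ hc))
      obtain ⟨d, hd⟩ := h3 _ hc
      exact ⟨c + d, by rw [map_add, ← sub_sub]; exact hd⟩
  obtain ⟨r, hr⟩ := h2 (N + 1) (algebraMap E Eu (χB b) - ι c)
  have h4 : ψu (algebraMap E Eu (χB b) - ι c - ι r) ∈ maximalIdeal Λ ^ (N + 1) := by
    have := Ideal.mem_map_of_mem ψu hr
    rw [Ideal.map_pow] at this
    refine Ideal.pow_right_mono ?_ _ this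
    rw [hgen, Ideal.map_map, hψι, hmax]
  have h5 : algebraMap Cx Λ r ∈ maximalIdeal Λ ^ (N + 1) := by
    have h6 : ψu (algebraMap E Eu (χB b) - ι c) ∈ maximalIdeal Λ ^ (N + 1) := by
      rw [← hker, RingHom.mem_ker]
      show AdicCompletion.evalₐ (maximalIdeal Cx) (N + 1) _ = 0
      rw [map_sub ψu, map_sub, hψu, show ψu (ι c) = algebraMap Cx Λ c from RingHom.congr_fun hψι c, hval, hbc,
        AlgHom.commutes, Ideal.Quotient.algebraMap_eq, sub_self]
    have h7 := sub_mem h6 h4
    rwa [← map_sub, sub_sub_cancel, show ψu (ι r) = algebraMap Cx Λ r from RingHom.congr_fun hψι r] at h7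
  have h8 : r ∈ maximalIdeal Cx ^ (N + 1) := by
    rw [← hker, RingHom.mem_ker] at h5
    change AdicCompletion.evalₐ (maximalIdeal Cx) (N + 1) (algebraMap Cx Λ r) = 0 at h5
    rwa [AlgHom.commutes, Ideal.Quotient.algebraMap_eq, Ideal.Quotient.eq_zero_iff_mem] at h5
  have h9 : ι r ∈ maximalIdeal Eu ^ (N + 1) := by
    rw [hgen, ← Ideal.map_pow]
    exact Ideal.mem_map_of_mem ι h8
  have := add_mem hr h9
  rwa [sub_add_cancel] at this

end Smoothing.Approx
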