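import Groth.Agent.Lib.Smoothing.Approx.Etale

/-!
# Approximate solutions of polynomial systems in étale neighbourhoods of a local ring
-/

set_option autoImplicit false
set_option backward.isDefEq.respectTransparency false

universe u

open IsLocalRing

namespace Smoothing.Approx

/-- Étale solutions of polynomial systems over local rings with regular completion map. -/
theorem exists_etale_solution {R : Type u} [CommRing R] [IsLocalRing R] [IsNoetherianRing R]
    (hreg : CAlg.IsRegularHom R (AdicCompletion (maximalIdeal R) R))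
    {n m : ℕ} (F : Fin m → MvPolynomial (Fin n) R)
    (a : Fin n → AdicCompletion (maximalIdeal R) R) (ha : ∀ j, MvPolynomial.aeval a (F j) = 0) (N : ℕ) :
    ∃ (R' : Type u) (_ : CommRing R') (_ : Algebra R R'), Algebra.Etale R R' ∧
      ∃ (ψ : R' →ₐ[R] AdicCompletion (maximalIdeal R) R) (m' : Ideal R'), m'.IsMaximal ∧
        m'.comap (algebraMap R R') = maximalIdeal R ∧
        (∀ x : R', ∃ r : R, x - algebraMap R R' r ∈ m') ∧
        (∀ x ∈ m', ψ x ∈ (maximalIdeal R).map (algebraMap R (AdicCompletion (maximalIdeal R) R))) ∧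
        ∃ b : Fin n → R', (∀ j, MvPolynomial.aeval b (F j) = 0) ∧
          ∀ i, a i - ψ (b i) ∈ (maximalIdeal R ^ N).map
            (algebraMap R (AdicCompletion (maximalIdeal R) R)) := by
  classical
  haveI : Algebra.FinitePresentation R (MvPolynomial (Fin n) R ⧸ Ideal.span (Set.range F)) :=
    Algebra.FinitePresentation.quotient (Submodule.fg_span (Set.finite_range F))
  have hle : ∀ x ∈ Ideal.span (Set.range F), MvPolynomial.aeval a x = 0 := by
    intro x hx
    refine (Ideal.span_le (I := RingHom.ker (MvPolynomial.aeval a : MvPolynomial (Fin n) R →ₐ[R] _))).2 ?_ hx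
    rintro - ⟨j, rfl⟩
    exact ha j
  obtain ⟨E, _, _, hE, χ, τ, hτ, hker⟩ := exists_etale_approx (maximalIdeal R) hreg
    (MvPolynomial (Fin n) R ⧸ Ideal.span (Set.range F)) (Ideal.Quotient.liftₐ _ (MvPolynomial.aeval a) hle) (N + 1)
  obtain ⟨ψ, hψ⟩ := exists_algHom_completion (maximalIdeal R) E (N + 1) N.succ_ne_zero τ
  let res : E →ₐ[R] R ⧸ maximalIdeal R :=
    (Ideal.Quotient.factorₐ R (Ideal.pow_le_self N.succ_ne_zero)).comp τ
  have hsurj : Function.Surjective res := fun y => by
    obtain ⟨r, rfl⟩ := Ideal.Quotient.mk_surjective y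
    exact ⟨algebraMap R E r, res.commutes r⟩
  letI : Field (R ⧸ maximalIdeal R) := Ideal.Quotient.field _
  have hmax : (RingHom.ker res.toRingHom).IsMaximal := RingHom.ker_isMaximal_of_surjective _ hsurj
  refine ⟨E, inferInstance, inferInstance, hE, ψ, RingHom.ker res.toRingHom, hmax, ?_, fun x => ?_,
    fun x hx => ?_, fun i => χ (Ideal.Quotient.mk _ (MvPolynomial.X i)), fun j => ?_, fun i => ?_⟩
  · ext r
    rw [Ideal.mem_comap, RingHom.mem_ker]
    change res (algebraMap R E r) = 0 ↔ _
    rw [res.commutes]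
    exact Ideal.Quotient.eq_zero_iff_mem
  · obtain ⟨r, hr⟩ := Ideal.Quotient.mk_surjective (res x)
    refine ⟨r, ?_⟩
    rw [RingHom.mem_ker]
    change res (x - algebraMap R E r) = 0
    rw [map_sub, res.commutes, ← hr, Ideal.Quotient.algebraMap_eq, sub_self]
  · obtain ⟨r, hr⟩ := Ideal.Quotient.mk_surjective (τ x)
    have hrm : r ∈ maximalIdeal R := by
      rw [← Ideal.Quotient.eq_zero_iff_mem]
      change Ideal.Quotient.factor (Ideal.pow_le_self N.succ_ne_zero) (τ x) = 0 at hx
      rwa [← hr, Ideal.Quotient.factor_mk] at hx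
    have h1 : AdicCompletion.evalₐ (maximalIdeal R) (N + 1) (ψ x) = Ideal.Quotient.mk _ r :=
      (AlgHom.congr_fun hψ x).trans hr.symm
    have h2 := sub_algebraMap_mem_map_pow (IsNoetherian.noetherian _) (ψ x) r (N + 1) h1.symm
    have h3 := add_mem (Ideal.map_mono (Ideal.pow_le_self N.succ_ne_zero) h2)
      (Ideal.mem_map_of_mem (algebraMap R (AdicCompletion (maximalIdeal R) R)) hrm)
    rwa [sub_add_cancel] at h3
  · have hb : MvPolynomial.aeval (fun i => χ (Ideal.Quotient.mk _ (MvPolynomial.X i))) =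
        χ.comp (Ideal.Quotient.mkₐ R (Ideal.span (Set.range F))) :=
      MvPolynomial.algHom_ext fun i => by simp
    rw [hb, AlgHom.comp_apply, Ideal.Quotient.mkₐ_eq_mk,
      Ideal.Quotient.eq_zero_iff_mem.2 (Ideal.subset_span (Set.mem_range_self j)), map_zero]
  · have h1 : AdicCompletion.evalₐ (maximalIdeal R) (N + 1)
        (ψ (χ (Ideal.Quotient.mk _ (MvPolynomial.X i)))) =
        AdicCompletion.evalₐ (maximalIdeal R) (N + 1) (a i) := by
      rw [← AlgHom.comp_apply (AdicCompletion.evalₐ _ _) ψ, hψ, ← AlgHom.comp_apply τ χ, hτ,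
        AlgHom.comp_apply]
      congr 1
      exact MvPolynomial.aeval_X a i
    refine Ideal.map_mono (Ideal.pow_le_pow_right N.le_succ) ?_
    rw [Ideal.map_pow, ← GrothLib.AdicFS.ker_evalₐ (IsNoetherian.noetherian _), RingHom.mem_ker,
      map_sub, ← h1, sub_self]

end Smoothing.Approx
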