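import Groth.Agent.Lib.FPCrit.AllAlgebras
import Mathlib.RingTheory.AdicCompletion.Algebra
import Mathlib.CategoryTheory.Limits.Types.Colimits
import Mathlib.RingTheory.Finiteness.Basic

/-!
# Functors preserving filtered colimits see finitely presented algebras
-/

set_option autoImplicit false

universe u

open CategoryTheory Limits

namespace Smoothing.Approx

variable {A : Type u} [CommRing A]

/-- An element of `F B` comes from a finitely presented algebra over `B`. -/
theorem exists_fp_preimage (B : Type u) [CommRing B] [Algebra A B]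
    (F : Under (CommRingCat.of A) ⥤ Type u)
    (hF : ∀ (J : Type u) [SmallCategory J] [IsFiltered J], PreservesColimitsOfShape J F)
    (ξ : F.obj (Under.mk (CommRingCat.ofHom (algebraMap A B)))) :
    ∃ (C : Type u) (_ : CommRing C) (_ : Algebra A C) (_ : Algebra.FinitePresentation A C)
      (ι : Under.mk (CommRingCat.ofHom (algebraMap A C)) ⟶ Under.mk (CommRingCat.ofHom (algebraMap A B)))
      (x : F.obj (Under.mk (CommRingCat.ofHom (algebraMap A C)))), F.map ι x = ξ := by
  haveI := hF (GrothLib.FPCrit.FPIndex A B)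
  obtain ⟨S, x, hx⟩ := Types.jointly_surjective _
    (isColimitOfPreserves F (GrothLib.FPCrit.isColimitFpCocone A B)) ξ
  exact ⟨_, _, _, Algebra.FinitePresentation.quotient S.2.2.1,
    (GrothLib.FPCrit.fpCocone A B).ι.app S, x, hx⟩

/-- The algebra map underlying a morphism under `A`. -/
def toAlgHom {B C : Type u} [CommRing B] [Algebra A B] [CommRing C] [Algebra A C]
    (f : Under.mk (CommRingCat.ofHom (algebraMap A B)) ⟶ Under.mk (CommRingCat.ofHom (algebraMap A C))) :
    B →ₐ[A] C :=
  { f.right.hom with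
    commutes' := fun a => congr(($(Under.w f)).hom a) }

@[simp]
theorem toAlgHom_apply {B C : Type u} [CommRing B] [Algebra A B] [CommRing C] [Algebra A C]
    (f : Under.mk (CommRingCat.ofHom (algebraMap A B)) ⟶ Under.mk (CommRingCat.ofHom (algebraMap A C)))
    (b : B) : toAlgHom f b = f.right.hom b := rfl

/-- The morphism under `A` of an algebra map. -/
def ofAlgHom {B C : Type u} [CommRing B] [Algebra A B] [CommRing C] [Algebra A C] (f : B →ₐ[A] C) :
    Under.mk (CommRingCat.ofHom (algebraMap A B)) ⟶ Under.mk (CommRingCat.ofHom (algebraMap A C)) :=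
  Under.homMk (CommRingCat.ofHom f.toRingHom) (CommRingCat.hom_ext f.comp_algebraMap)

/-- The morphism to the base under itself of an algebra map. -/
def ofAlgHomBase {B : Type u} [CommRing B] [Algebra A B] (f : B →ₐ[A] A) :
    Under.mk (CommRingCat.ofHom (algebraMap A B)) ⟶ Under.mk (𝟙 (CommRingCat.of A)) :=
  Under.homMk (CommRingCat.ofHom f.toRingHom) (CommRingCat.hom_ext f.comp_algebraMap)

/-- Maps to `T` under `A` out of `A` itself are the structure map. -/
theorem base_right_apply {T : Under (CommRingCat.of A)} (ρ : Under.mk (𝟙 (CommRingCat.of A)) ⟶ T)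
    (a : A) : ρ.right.hom a = T.hom.hom a :=
  congr(($(Under.w ρ)).hom a)

/-- Approximation of algebra maps gives approximation of the values of a functor. -/
theorem exists_map_eq {B Q : Type u} [CommRing B] [Algebra A B] [CommRing Q] [Algebra A Q]
    (p : B →ₐ[A] Q)
    (happ : ∀ (C : Type u) [CommRing C] [Algebra A C], Algebra.FinitePresentation A C →
      ∀ φ : C →ₐ[A] B, ∃ ψ : C →ₐ[A] A, ∀ c, algebraMap A Q (ψ c) = p (φ c))
    (F : Under (CommRingCat.of A) ⥤ Type u)
    (hF : ∀ (J : Type u) [SmallCategory J] [IsFiltered J], PreservesColimitsOfShape J F)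
    (π : Under.mk (CommRingCat.ofHom (algebraMap A B)) ⟶ Under.mk (CommRingCat.ofHom (algebraMap A Q)))
    (hπ : π.right = CommRingCat.ofHom p.toRingHom)
    (ρ : Under.mk (𝟙 (CommRingCat.of A)) ⟶ Under.mk (CommRingCat.ofHom (algebraMap A Q)))
    (ξ : F.obj (Under.mk (CommRingCat.ofHom (algebraMap A B)))) :
    ∃ η : F.obj (Under.mk (𝟙 (CommRingCat.of A))), F.map ρ η = F.map π ξ := by
  obtain ⟨C, _, _, hC, ι, x, rfl⟩ := exists_fp_preimage B F hF ξ
  obtain ⟨ψ, hψ⟩ := happ C hC (toAlgHom ι)
  refine ⟨F.map (ofAlgHomBase ψ) x, ?_⟩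
  have h : ofAlgHomBase ψ ≫ ρ = ι ≫ π := by
    refine Under.UnderMorphism.ext (CommRingCat.hom_ext (RingHom.ext fun c => ?_))
    change ρ.right.hom (ψ c) = π.right.hom (ι.right.hom c)
    rw [base_right_apply, hπ]
    exact hψ c
  rw [← Functor.map_comp_apply, h, Functor.map_comp_apply]

/-- Approximation of polynomial systems gives approximation of algebra maps. -/
theorem exists_algHom_of_polynomial {m : Ideal A} (c : ℕ)
    (hAP : ∀ (k l : ℕ) (f : Fin l → MvPolynomial (Fin k) A) (â : Fin k → AdicCompletion m A),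
      (∀ i, MvPolynomial.aeval â (f i) = 0) →
      ∃ a : Fin k → A, (∀ i, MvPolynomial.eval a (f i) = 0) ∧
        ∀ j, Ideal.Quotient.mk (m ^ c) (a j) = AdicCompletion.evalₐ m c (â j))
    (C : Type u) [CommRing C] [Algebra A C] (hC : Algebra.FinitePresentation A C)
    (φ : C →ₐ[A] AdicCompletion m A) :
    ∃ ψ : C →ₐ[A] A, ∀ x, algebraMap A (A ⧸ m ^ c) (ψ x) = AdicCompletion.evalₐ m c (φ x) := by
  obtain ⟨k, q, hq, hker⟩ := hC.out
  obtain ⟨l, f, hf⟩ := Submodule.fg_iff_exists_fin_generating_family.mp hker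
  have hfk : ∀ i, q (f i) = 0 := fun i => RingHom.mem_ker.1 (hf ▸ Submodule.subset_span ⟨i, rfl⟩)
  have hX : MvPolynomial.aeval (fun j => φ (q (MvPolynomial.X j))) = φ.comp q :=
    MvPolynomial.algHom_ext fun j => by simp
  obtain ⟨a, ha, hac⟩ := hAP k l f (fun j => φ (q (MvPolynomial.X j))) fun i => by
    rw [hX, AlgHom.comp_apply, hfk, map_zero]
  have hle : RingHom.ker q.toRingHom ≤ RingHom.ker (MvPolynomial.aeval a : _ →ₐ[A] A).toRingHom := by
    rw [← hf]
    refine Ideal.span_le.2 ?_
    rintro - ⟨i, rfl⟩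
    exact (RingHom.mem_ker).2 (by simpa using ha i)
  refine ⟨AlgHom.liftOfSurjective q hq (MvPolynomial.aeval a) hle, fun x => ?_⟩
  obtain ⟨y, rfl⟩ := hq x
  rw [AlgHom.liftOfSurjective_apply, ← AlgHom.comp_apply φ q, ← hX, ← Algebra.ofId_apply,
    ← AlgHom.comp_apply, ← AlgHom.comp_apply (AdicCompletion.evalₐ m c)]
  congr 1
  exact MvPolynomial.algHom_ext fun j => by simpa using hac j

end Smoothing.Approx
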