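import Groth.Agent.Lib.Smoothing.Approx.Basic
import Groth.Agent.Lib.Ratliff.Excellent
import Groth.Agent.Lib.RegLoc.PowerSeries
import Groth.Agent.Lib.GeomReg.FiniteGRing
import Mathlib.RingTheory.UniqueFactorizationDomain.Finite
import Mathlib.RingTheory.EssentialFiniteness
import Mathlib.RingTheory.Filtration

/-!
# Retractions realizing factorizations of node parameters
-/

set_option autoImplicit false
set_option backward.isDefEq.respectTransparency false

universe u

open IsLocalRing MvPowerSeries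

namespace Smoothing.Approx

/-- Congruent divisors of a nonzero element generate the same ideal. -/
theorem exists_divisor_separation {L : Type u} [CommRing L] [IsDomain L] [IsNoetherianRing L] [IsLocalRing L]
    [UniqueFactorizationMonoid L] (Δ : L) (hΔ : Δ ≠ 0) :
    ∃ N : ℕ, ∀ M, N ≤ M → ∀ a b : L, a ∣ Δ → b ∣ Δ → a - b ∈ maximalIdeal L ^ M →
      Ideal.span {a} = Ideal.span {b} := by
  classical
  haveI : Fintype (Associates L)ˣ := Fintype.ofFinite _
  haveI : Finite {x : Associates L // x ∣ Associates.mk Δ} :=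
    @Finite.of_fintype _ (UniqueFactorizationMonoid.fintypeSubtypeDvd (Associates.mk Δ)
      (Associates.mk_ne_zero.2 hΔ))
  let J : {x : Associates L // x ∣ Associates.mk Δ} → Ideal L := fun x => Ideal.span {Quotient.out x.1}
  have hJ : ∀ a, a ∣ Δ → ∃ x, J x = Ideal.span {a} := fun a ha =>
    ⟨⟨Associates.mk a, Associates.mk_le_mk_of_dvd ha⟩, by
      rw [Ideal.span_singleton_eq_span_singleton]
      exact Associates.mk_eq_mk_iff_associated.1 (Quotient.out_eq _)⟩
  have hcl : ∀ (I J : Ideal L), (∀ n, I ≤ J ⊔ maximalIdeal L ^ n) → I ≤ J := by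
    intro I J h x hx
    rcases eq_or_ne J ⊤ with hJt | hJt
    · rw [hJt]; trivial
    have h2 := Ideal.iInf_pow_smul_eq_bot_of_isLocalRing (M := L ⧸ J) (maximalIdeal L)
      (IsLocalRing.maximalIdeal.isMaximal L).ne_top
    rw [← Ideal.Quotient.eq_zero_iff_mem, ← Submodule.mem_bot L, ← h2, Submodule.mem_iInf]
    intro n
    obtain ⟨y, hy, z, hz, rfl⟩ := Submodule.mem_sup.1 (h n hx)
    rw [map_add, Ideal.Quotient.eq_zero_iff_mem.2 hy, zero_add]
    have h3 : z • (1 : L ⧸ J) ∈ maximalIdeal L ^ n • (⊤ : Submodule L (L ⧸ J)) :=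
      Submodule.smul_mem_smul hz trivial
    rwa [Algebra.smul_def, mul_one] at h3
  have hsep : ∀ p : _ × _, ∃ n, J p.1 ≤ J p.2 ⊔ maximalIdeal L ^ n →
      J p.2 ≤ J p.1 ⊔ maximalIdeal L ^ n → J p.1 = J p.2 := fun p => by
    by_contra hc
    push Not at hc
    exact (hc 0).2.2 (le_antisymm (hcl _ _ fun n => (hc n).1) (hcl _ _ fun n => (hc n).2.1))
  choose n hn using hsep
  haveI := Fintype.ofFinite {x : Associates L // x ∣ Associates.mk Δ}
  refine ⟨Finset.univ.sup n, fun M hM a b ha hb hab => ?_⟩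
  obtain ⟨i, hi⟩ := hJ a ha
  obtain ⟨j, hj⟩ := hJ b hb
  have hle := Ideal.pow_le_pow_right (I := maximalIdeal L)
    ((Finset.le_sup (Finset.mem_univ (i, j))).trans hM : n (i, j) ≤ M) hab
  rw [← hi, ← hj]
  refine hn (i, j) ?_ ?_ <;> simp only [hi, hj, Ideal.span_singleton_le_iff_mem]
  · exact Submodule.mem_sup.2 ⟨b, Ideal.mem_span_singleton_self b, a - b, hle, add_sub_cancel b a⟩
  · exact Submodule.mem_sup.2
      ⟨a, Ideal.mem_span_singleton_self a, b - a, neg_sub a b ▸ neg_mem hle, add_sub_cancel a b⟩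

/-- Approximation of a map from an algebra essentially of finite type to the completion. -/
theorem exists_algHom_approx_local {R : Type u} [CommRing R] [IsNoetherianRing R] [HenselianLocalRing R]
    (hreg : CAlg.IsRegularHom R (AdicCompletion (maximalIdeal R) R)) (C : Type u) [CommRing C] [Algebra R C]
    [Algebra.EssFiniteType R C] (φ : C →ₐ[R] AdicCompletion (maximalIdeal R) R) (N : ℕ) :
    ∃ g : C →ₐ[R] R, ∀ c, Ideal.Quotient.mk (maximalIdeal R ^ (N + 1)) (g c) =
      AdicCompletion.evalₐ (maximalIdeal R) (N + 1) (φ c) := by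
  let C₀ := Algebra.EssFiniteType.subalgebra R C
  haveI : Algebra.FinitePresentation R C₀ := Algebra.FinitePresentation.of_finiteType.1 inferInstance
  obtain ⟨g₀, hg₀⟩ := exists_algHom_approx (maximalIdeal R) hreg C₀ (φ.comp C₀.val) (N + 1)
  have hu : ∀ s : Algebra.EssFiniteType.submonoid R C, IsUnit (g₀ s) := fun s => by
    have h1 : IsUnit (Ideal.Quotient.mk (maximalIdeal R ^ (N + 1)) (g₀ s)) := by
      rw [← Ideal.Quotient.mkₐ_eq_mk R, ← AlgHom.comp_apply, hg₀]
      exact ((s.2 : IsUnit (algebraMap _ C _)).map φ).map (AdicCompletion.evalₐ (maximalIdeal R) (N + 1))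
    exact GrothLib.Hensel.isUnit_of_isUnit_mk
      ((Ideal.pow_le_self N.succ_ne_zero).trans (IsLocalRing.maximalIdeal_le_jacobson ⊥)) h1
  let g : C →ₐ[R] R := IsLocalization.liftAlgHom (M := Algebra.EssFiniteType.submonoid R C) (f := g₀) hu
  refine ⟨g, fun c => ?_⟩
  have h : (Ideal.Quotient.mkₐ R (maximalIdeal R ^ (N + 1))).comp g =
      ((AdicCompletion.evalₐ (maximalIdeal R) (N + 1)).restrictScalars R).comp φ := by
    refine IsLocalization.algHom_ext (Algebra.EssFiniteType.submonoid R C) (AlgHom.ext fun x => ?_)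
    refine Eq.trans ?_ (AlgHom.congr_fun hg₀ x)
    exact congrArg (Ideal.Quotient.mk _) (IsLocalization.lift_eq hu x)
  exact AlgHom.congr_fun h c

theorem map_mem_pow_maximalIdeal {A B : Type u} [CommRing A] [CommRing B] [IsLocalRing A] [IsLocalRing B]
    (f : A →+* B) [IsLocalHom f] {n : ℕ} {x : A} (hx : x ∈ maximalIdeal A ^ n) : f x ∈ maximalIdeal B ^ n := by
  have h1 := Ideal.mem_map_of_mem f hx
  rw [Ideal.map_pow] at h1
  exact Ideal.pow_right_mono (((IsLocalRing.local_hom_TFAE f).out 0 2 rfl rfl).1 inferInstance) n h1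

/-- Retractions realizing a factorization of the parameter of a node. -/
theorem exists_retraction_node {R : Type u} [CommRing R] [IsNoetherianRing R] [HenselianLocalRing R]
    (hreg : CAlg.IsRegularHom R (AdicCompletion (maximalIdeal R) R))
    [IsDomain (AdicCompletion (maximalIdeal R) R)] [UniqueFactorizationMonoid (AdicCompletion (maximalIdeal R) R)]
    (Δ t₁ t₂ : R) (hΔ : algebraMap R (AdicCompletion (maximalIdeal R) R) Δ ≠ 0)
    (ht₁ : t₁ ∈ maximalIdeal R) (ht₂ : t₂ ∈ maximalIdeal R) (ht : t₁ * t₂ = Δ)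
    (C : Type u) [CommRing C] [IsLocalRing C] [Algebra R C]
    [Algebra.EssFiniteType R C]
    (ψ : AdicCompletion (maximalIdeal C) C ≃+*
      (MvPowerSeries (Fin 2) (AdicCompletion (maximalIdeal R) R) ⧸
        Ideal.span {(X 0 * X 1 - MvPowerSeries.C (algebraMap R (AdicCompletion (maximalIdeal R) R) Δ) :
          MvPowerSeries (Fin 2) (AdicCompletion (maximalIdeal R) R))}))
    (hψ : ψ.toRingHom.comp ((algebraMap C (AdicCompletion (maximalIdeal C) C)).comp (algebraMap R C)) =
      (Ideal.Quotient.mk _).comp ((MvPowerSeries.C : AdicCompletion (maximalIdeal R) R →+*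
        MvPowerSeries (Fin 2) (AdicCompletion (maximalIdeal R) R)).comp
          (algebraMap R (AdicCompletion (maximalIdeal R) R)))) :
    ∃ (g : C →ₐ[R] R) (ĝ : AdicCompletion (maximalIdeal C) C →+* AdicCompletion (maximalIdeal R) R),
      ĝ.comp (algebraMap C (AdicCompletion (maximalIdeal C) C)) =
        (algebraMap R (AdicCompletion (maximalIdeal R) R)).comp g.toRingHom ∧
      Ideal.span {ĝ (ψ.symm (Ideal.Quotient.mk _ (X 0)))} =
        Ideal.span {algebraMap R (AdicCompletion (maximalIdeal R) R) t₁} ∧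
      Ideal.span {ĝ (ψ.symm (Ideal.Quotient.mk _ (X 1)))} =
        Ideal.span {algebraMap R (AdicCompletion (maximalIdeal R) R) t₂} := by
  haveI : IsNoetherianRing C := Algebra.EssFiniteType.isNoetherianRing R C
  let L := AdicCompletion (maximalIdeal R) R
  let Ĉ := AdicCompletion (maximalIdeal C) C
  haveI : IsAdicComplete (maximalIdeal L) L := AdicCompletion.isAdicComplete_of_fg (IsNoetherian.noetherian _)
  let b : Fin 2 → L := ![algebraMap R L t₁, algebraMap R L t₂]
  have hb : ∀ i, b i ∈ maximalIdeal L := fun i => by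
    rw [AdicCompletion.maximalIdeal_eq_map]
    fin_cases i
    · exact Ideal.mem_map_of_mem _ ht₁
    · exact Ideal.mem_map_of_mem _ ht₂
  obtain ⟨ev, hev⟩ := GrothLib.RegLoc.PS.exists_algHom (A := L) (maximalIdeal L) b hb
  let S := MvPowerSeries (Fin 2) L ⧸ Ideal.span {(X 0 * X 1 - MvPowerSeries.C (algebraMap R L Δ) :
          MvPowerSeries (Fin 2) L)}
  have hevC : ∀ x : L, ev (MvPowerSeries.C x) = x := fun x => ev.commutes x
  let q : S →+* L := Ideal.Quotient.lift _ ev.toRingHom fun x hx => by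
    obtain ⟨r, rfl⟩ := Ideal.mem_span_singleton'.1 hx
    show ev (r * _) = 0
    rw [map_mul, map_sub, map_mul, hev, hev, hevC, ← ht, map_mul]
    simp [b]
  let φh : Ĉ →+* L := q.comp ψ.toRingHom
  have hφh : Function.Surjective φh := fun x => ⟨ψ.symm (Ideal.Quotient.mk _ (MvPowerSeries.C x)), by
    show q (ψ (ψ.symm _)) = x
    rw [RingEquiv.apply_symm_apply]
    exact hevC x⟩
  haveI : IsLocalHom φh := IsLocalHom.of_surjective φh hφh
  let φ : C →ₐ[R] L :=
    { φh.comp (algebraMap C Ĉ) with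
      commutes' := fun r => by
        show q (ψ.toRingHom.comp ((algebraMap C Ĉ).comp (algebraMap R C)) r) = _
        rw [hψ]
        exact hevC _ }
  obtain ⟨N, hN⟩ := exists_divisor_separation (algebraMap R L Δ) hΔ
  obtain ⟨g, hg⟩ := exists_algHom_approx_local hreg C φ N
  have hkerC : RingHom.ker (AdicCompletion.evalₐ (maximalIdeal C) (N + 1)).toRingHom = maximalIdeal Ĉ ^ (N + 1) := by
    rw [AdicCompletion.maximalIdeal_eq_map]; exact GrothLib.AdicFS.ker_evalₐ (IsNoetherian.noetherian _) _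
  have hkerL : RingHom.ker (AdicCompletion.evalₐ (maximalIdeal R) (N + 1)).toRingHom = maximalIdeal L ^ (N + 1) := by
    rw [AdicCompletion.maximalIdeal_eq_map]; exact GrothLib.AdicFS.ker_evalₐ (IsNoetherian.noetherian _) _
  have hgmod : ∀ c, algebraMap R L (g c) - φ c ∈ maximalIdeal L ^ (N + 1) := fun c => by
    rw [← hkerL, RingHom.mem_ker]
    show AdicCompletion.evalₐ (maximalIdeal R) (N + 1) (_ - _) = 0
    rw [map_sub, AlgHom.commutes, Ideal.Quotient.algebraMap_eq, hg, sub_self]
  haveI hgloc : IsLocalHom g.toRingHom := ⟨fun c hc => by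
    by_contra hnc
    have h1 : algebraMap C Ĉ c ∈ maximalIdeal Ĉ := by
      rw [AdicCompletion.maximalIdeal_eq_map]
      exact Ideal.mem_map_of_mem _ ((mem_maximalIdeal _).2 hnc)
    have h2 : φ c ∈ maximalIdeal L := pow_one (maximalIdeal L) ▸
      map_mem_pow_maximalIdeal φh (n := 1) ((pow_one (maximalIdeal Ĉ)).symm ▸ h1)
    have h3 : algebraMap R L (g c) ∈ maximalIdeal L := by
      have := add_mem (Ideal.pow_le_self N.succ_ne_zero (hgmod c)) h2
      rwa [sub_add_cancel] at this
    exact (mem_maximalIdeal _).1 h3 (hc.map (algebraMap R L))⟩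
  letI : Algebra C R := g.toRingHom.toAlgebra
  haveI : IsLocalHom (algebraMap C R) := hgloc
  obtain ⟨ĝ, hĝ⟩ := GrothLib.GeomReg.exists_completion_map C R
  haveI : IsLocalHom ĝ := GrothLib.AdicExtra.isLocalHom_completion ĝ hĝ
  have hmod : ∀ z, ĝ z - φh z ∈ maximalIdeal L ^ (N + 1) := fun z => by
    obtain ⟨c, hc⟩ := Ideal.Quotient.mk_surjective (AdicCompletion.evalₐ (maximalIdeal C) (N + 1) z)
    have hz : z - algebraMap C Ĉ c ∈ maximalIdeal Ĉ ^ (N + 1) := by
      rw [← hkerC, RingHom.mem_ker]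
      show AdicCompletion.evalₐ (maximalIdeal C) (N + 1) (_ - _) = 0
      rw [map_sub, AlgHom.commutes, Ideal.Quotient.algebraMap_eq, hc, sub_self]
    have h1 := sub_mem (map_mem_pow_maximalIdeal ĝ hz) (map_mem_pow_maximalIdeal φh hz)
    have h2 := add_mem h1 (hgmod c)
    rw [map_sub, map_sub, show ĝ (algebraMap C Ĉ c) = algebraMap R L (g c) from RingHom.congr_fun hĝ c,
      show φh (algebraMap C Ĉ c) = φ c from rfl] at h2
    convert h2 using 1
    ring
  have hprod : ĝ (ψ.symm (Ideal.Quotient.mk _ (X 0))) * ĝ (ψ.symm (Ideal.Quotient.mk _ (X 1))) = algebraMap R L Δ := by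
    rw [← map_mul, ← map_mul, ← map_mul]
    have h1 : ψ (algebraMap C Ĉ (algebraMap R C Δ)) =
        Ideal.Quotient.mk (Ideal.span {(X 0 * X 1 - MvPowerSeries.C (algebraMap R L Δ) : MvPowerSeries (Fin 2) L)})
          (X 0 * X 1) := by
      refine (RingHom.congr_fun hψ Δ).trans ?_
      rw [RingHom.comp_apply, RingHom.comp_apply, eq_comm, Ideal.Quotient.eq]
      exact Ideal.mem_span_singleton_self _
    rw [← h1, RingEquiv.symm_apply_apply]
    refine (RingHom.congr_fun hĝ _).trans ?_
    show algebraMap R L (g (algebraMap R C Δ)) = _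
    rw [g.commutes]
    rfl
  have hval : ∀ i, φh (ψ.symm (Ideal.Quotient.mk _ (X i))) = b i := fun i => by
    show q (ψ (ψ.symm _)) = _
    rw [RingEquiv.apply_symm_apply]
    exact hev i
  refine ⟨g, ĝ, hĝ, ?_, ?_⟩
  · refine hN (N + 1) N.le_succ _ _ (Dvd.intro _ hprod) ⟨algebraMap R L t₂, by rw [← map_mul, ht]⟩ ?_
    have := hmod (ψ.symm (Ideal.Quotient.mk _ (X 0)))
    rwa [hval] at this
  · refine hN (N + 1) N.le_succ _ _ (Dvd.intro_left _ hprod) ⟨algebraMap R L t₁, by rw [← map_mul, mul_comm, ht]⟩ ?_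
    have := hmod (ψ.symm (Ideal.Quotient.mk _ (X 1)))
    rwa [hval] at this

end Smoothing.Approx
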