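import Mathlib.AlgebraicGeometry.Stalk
import Mathlib.AlgebraicGeometry.ResidueField

/-!
# Germs under maps from spectra into affine opens
-/

set_option autoImplicit false
universe u

open CategoryTheory AlgebraicGeometry

namespace Smoothing.Approx

/-- The map of stalks of a map from a spectrum into an affine open, on germs. -/
theorem germ_stalkMap_SpecMap_fromSpec {X : Scheme.{u}} {R : CommRingCat.{u}} {V : X.Opens} (hV : IsAffineOpen V)
    (g : Γ(X, V) ⟶ R) (t : Spec R) (x : X) (ht : (Spec.map g ≫ hV.fromSpec) t = x) (hx : x ∈ V) :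
    X.presheaf.germ V x hx ≫ (X.presheaf.stalkCongr (Inseparable.of_eq ht)).inv ≫
      (Spec.map g ≫ hV.fromSpec).stalkMap t = g ≫ StructureSheaf.toStalk R t := by
  subst ht
  rw [TopCat.Presheaf.stalkCongr_inv, TopCat.Presheaf.germ_stalkSpecializes_assoc]
  apply Spec.map_injective
  rw [← cancel_mono hV.fromSpec, Spec.map_comp]
  have h := Scheme.SpecMap_stalkMap_fromSpecStalk (Spec.map g ≫ hV.fromSpec) (x := t)
  rw [← hV.fromSpecStalk_eq_fromSpecStalk hx, IsAffineOpen.fromSpecStalk, Spec.fromSpecStalk_eq'] at h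
  refine (Category.assoc _ _ _).trans (h.trans ?_)
  exact (Category.assoc _ _ _).symm.trans (congrArg (· ≫ hV.fromSpec) (Spec.map_comp g _).symm)

end Smoothing.Approx
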